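import Mathlib
import Cfsg.Prelude.Def_Spor_J2

/-!
Integer coordinates for the icosian ring: quadruples over ℤ[τ] in the basis 1, i, ω, iω.
-/

set_option autoImplicit false

noncomputable section

namespace CfsgLib.Icosian

open Quaternion
open Cfsg.Spor (sig tau qI icosians icoH leftIdeal icoLeech qip qrefl)

/-- The element `a + bτ` of ℤ[τ]. -/
@[ext] structure ZT where
  a : ℤ
  b : ℤ
deriving DecidableEq

namespace ZT

instance instZeroZT : Zero ZT := ⟨⟨0, 0⟩⟩
instance instOneZT : One ZT := ⟨⟨1, 0⟩⟩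
instance instAddZT : Add ZT := ⟨fun x y => ⟨x.a + y.a, x.b + y.b⟩⟩
instance instSubZT : Sub ZT := ⟨fun x y => ⟨x.a - y.a, x.b - y.b⟩⟩
instance instNegZT : Neg ZT := ⟨fun x => ⟨-x.a, -x.b⟩⟩
instance instMulZT : Mul ZT :=
  ⟨fun x y => ⟨x.a * y.a + x.b * y.b, x.a * y.b + x.b * y.a + x.b * y.b⟩⟩

theorem add_def (x y : ZT) : x + y = ⟨x.a + y.a, x.b + y.b⟩ := rfl
theorem sub_def (x y : ZT) : x - y = ⟨x.a - y.a, x.b - y.b⟩ := rfl
theorem neg_def (x : ZT) : -x = ⟨-x.a, -x.b⟩ := rfl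
theorem mul_def (x y : ZT) :
    x * y = ⟨x.a * y.a + x.b * y.b, x.a * y.b + x.b * y.a + x.b * y.b⟩ := rfl
theorem zero_def : (0 : ZT) = ⟨0, 0⟩ := rfl
theorem one_def : (1 : ZT) = ⟨1, 0⟩ := rfl

/-- σ = 1 − τ. -/
def s : ZT := ⟨1, -1⟩

/-- τ. -/
def t : ZT := ⟨0, 1⟩

/-- The real number. -/
def re (x : ZT) : ℝ := x.a + x.b * tau

end ZT

theorem tau_sq : tau * tau = tau + 1 := by
  have h : Real.sqrt 5 * Real.sqrt 5 = 5 := Real.mul_self_sqrt (by norm_num)
  rw [Cfsg.Spor.tau]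
  linear_combination h / 4

theorem sig_eq : sig = 1 - tau := by
  rw [Cfsg.Spor.sig, Cfsg.Spor.tau]; ring

theorem tau_irrational : Irrational tau := by
  have h := Real.goldenRatio_irrational
  simpa [Cfsg.Spor.tau, Real.goldenRatio] using h

namespace ZT

@[simp] theorem re_add (x y : ZT) : (x + y).re = x.re + y.re := by
  simp [re, add_def]; ring
@[simp] theorem re_sub (x y : ZT) : (x - y).re = x.re - y.re := by
  simp [re, sub_def]; ring
@[simp] theorem re_neg (x : ZT) : (-x).re = -x.re := by simp [re, neg_def]; ring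
@[simp] theorem re_mul (x y : ZT) : (x * y).re = x.re * y.re := by
  simp only [re, mul_def]; push_cast
  linear_combination (-(x.b : ℝ) * y.b) * tau_sq
@[simp] theorem re_zero : (0 : ZT).re = 0 := by simp [re, zero_def]
@[simp] theorem re_one : (1 : ZT).re = 1 := by simp [re, one_def]
@[simp] theorem re_s : s.re = sig := by simp [re, s, sig_eq]; ring
@[simp] theorem re_t : t.re = tau := by simp [re, t]

theorem re_int (n : ℤ) : (⟨n, 0⟩ : ZT).re = n := by simp [re]

theorem re_injective : Function.Injective re := by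
  rintro ⟨a, b⟩ ⟨c, d⟩ h
  simp only [re] at h
  by_cases hbd : b = d
  · subst hbd
    have : (a : ℝ) = c := by linarith
    exact ZT.ext (by exact_mod_cast this) rfl
  · refine absurd ?_ tau_irrational
    show tau ∈ Set.range ((↑) : ℚ → ℝ)
    refine ⟨(((c - a : ℤ) : ℚ) / ((b - d : ℤ) : ℚ)), ?_⟩
    have hne : ((b - d : ℤ) : ℝ) ≠ 0 := by exact_mod_cast sub_ne_zero.2 hbd
    push_cast at hne ⊢
    rw [div_eq_iff hne]
    linear_combination -h

/-- Evenness. -/
def ev (x : ZT) : Bool := x.a % 2 == 0 && x.b % 2 == 0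

/-- Halving. -/
def half (x : ZT) : ZT := ⟨x.a / 2, x.b / 2⟩

theorem half_two_mul (x : ZT) : half (x + x) = x := by
  ext <;> simp [half, add_def] <;> omega

theorem half_add_half {x : ZT} (h : x.ev = true) : half x + half x = x := by
  simp [ev] at h
  ext <;> simp [half, add_def] <;> omega

theorem ev_add_self (x : ZT) : (x + x).ev = true := by
  simp [ev, add_def]; omega

end ZT

/-- An element of the icosian ring in the basis 1, i, ω, iω. -/
@[ext] structure Ico where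
  a : ZT
  b : ZT
  c : ZT
  d : ZT
deriving DecidableEq

namespace Ico

open ZT (s t)

instance instZeroIco : Zero Ico := ⟨⟨0, 0, 0, 0⟩⟩
instance instOneIco : One Ico := ⟨⟨1, 0, 0, 0⟩⟩
instance instAddIco : Add Ico := ⟨fun x y => ⟨x.a + y.a, x.b + y.b, x.c + y.c, x.d + y.d⟩⟩
instance instSubIco : Sub Ico := ⟨fun x y => ⟨x.a - y.a, x.b - y.b, x.c - y.c, x.d - y.d⟩⟩
instance instNegIco : Neg Ico := ⟨fun x => ⟨-x.a, -x.b, -x.c, -x.d⟩⟩
instance instMulIco : Mul Ico := ⟨fun x y =>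
  ⟨x.a * y.a - x.b * y.b - s * (x.c * y.b) - x.c * y.c - x.d * y.b - x.d * y.d,
   x.a * y.b + x.b * y.a + x.c * y.b + x.c * y.d - s * (x.d * y.b) - x.d * y.c,
   x.a * y.c - x.b * y.d + x.c * y.a + x.c * y.c - s * (x.c * y.d) + x.d * y.b,
   x.a * y.d + x.b * y.c - x.c * y.b + x.d * y.a + x.d * y.c - s * (x.d * y.d)⟩⟩

theorem zero_def : (0 : Ico) = ⟨0, 0, 0, 0⟩ := rfl
theorem one_def : (1 : Ico) = ⟨1, 0, 0, 0⟩ := rfl
theorem add_def (x y : Ico) : x + y = ⟨x.a + y.a, x.b + y.b, x.c + y.c, x.d + y.d⟩ := rfl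
theorem sub_def (x y : Ico) : x - y = ⟨x.a - y.a, x.b - y.b, x.c - y.c, x.d - y.d⟩ := rfl
theorem neg_def (x : Ico) : -x = ⟨-x.a, -x.b, -x.c, -x.d⟩ := rfl
theorem mul_def (x y : Ico) : x * y =
  ⟨x.a * y.a - x.b * y.b - s * (x.c * y.b) - x.c * y.c - x.d * y.b - x.d * y.d,
   x.a * y.b + x.b * y.a + x.c * y.b + x.c * y.d - s * (x.d * y.b) - x.d * y.c,
   x.a * y.c - x.b * y.d + x.c * y.a + x.c * y.c - s * (x.c * y.d) + x.d * y.b,
   x.a * y.d + x.b * y.c - x.c * y.b + x.d * y.a + x.d * y.c - s * (x.d * y.d)⟩ := rfl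

/-- Quaternion conjugation. -/
def conj (x : Ico) : Ico := ⟨x.a + x.c - s * x.d, -x.b, -x.c, -x.d⟩

/-- The norm, in ℤ[τ]. -/
def nrm (x : Ico) : ZT :=
  x.a * x.a + x.b * x.b + x.c * x.c + x.d * x.d + x.a * x.c + x.b * x.d + s * (x.b * x.c - x.a * x.d)

/-- First doubled coordinate. -/
def d0 (x : Ico) : ZT := x.a + x.a + (x.c - s * x.d)
/-- Second doubled coordinate. -/
def d1 (x : Ico) : ZT := x.b + x.b + (s * x.c + x.d)
/-- Third doubled coordinate. -/
def d2 (x : Ico) : ZT := -(t * x.d)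
/-- Fourth doubled coordinate. -/
def d3 (x : Ico) : ZT := t * x.c

/-- The quaternion. -/
def toH (x : Ico) : ℍ[ℝ] := ⟨x.d0.re / 2, x.d1.re / 2, x.d2.re / 2, x.d3.re / 2⟩

/-- All coordinates even. -/
def ev (x : Ico) : Bool := x.a.ev && x.b.ev && x.c.ev && x.d.ev

/-- Halving. -/
def half (x : Ico) : Ico := ⟨x.a.half, x.b.half, x.c.half, x.d.half⟩

theorem half_add_self (x : Ico) : half (x + x) = x := by
  ext1 <;> simp [half, add_def, ZT.half_two_mul]

theorem ev_add_self (x : Ico) : (x + x).ev = true := by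
  simp [ev, add_def, ZT.ev_add_self]

theorem half_add_half {x : Ico} (h : x.ev = true) : half x + half x = x := by
  simp only [ev, Bool.and_eq_true] at h
  ext1 <;> simp [half, add_def, ZT.half_add_half, h]

theorem toH_re (x : Ico) : x.toH.re = x.a.re + (x.c.re - sig * x.d.re) / 2 := by
  simp [toH, d0]; ring
theorem toH_imI (x : Ico) : x.toH.imI = x.b.re + (sig * x.c.re + x.d.re) / 2 := by
  simp [toH, d1]; ring
theorem toH_imJ (x : Ico) : x.toH.imJ = -(tau * x.d.re) / 2 := by simp [toH, d2]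
theorem toH_imK (x : Ico) : x.toH.imK = tau * x.c.re / 2 := by simp [toH, d3]

theorem toH_injective : Function.Injective toH := by
  intro x y h
  have ht : tau ≠ 0 := tau_irrational.ne_zero
  have h3 := congrArg QuaternionAlgebra.imK h
  have h2 := congrArg QuaternionAlgebra.imJ h
  have h1 := congrArg QuaternionAlgebra.imI h
  have h0 := congrArg QuaternionAlgebra.re h
  rw [toH_imK, toH_imK] at h3
  rw [toH_imJ, toH_imJ] at h2
  rw [toH_imI, toH_imI] at h1
  rw [toH_re, toH_re] at h0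
  have hc : x.c.re = y.c.re := mul_left_cancel₀ ht (by linarith)
  have hd : x.d.re = y.d.re := mul_left_cancel₀ ht (by linarith)
  rw [hc, hd] at h0 h1
  exact Ico.ext (ZT.re_injective (by linarith)) (ZT.re_injective (by linarith))
    (ZT.re_injective hc) (ZT.re_injective hd)

@[simp] theorem toH_zero : toH 0 = 0 := by
  ext <;> simp [toH_re, toH_imI, toH_imJ, toH_imK, zero_def]

@[simp] theorem toH_one : toH 1 = 1 := by
  ext <;> simp [toH_re, toH_imI, toH_imJ, toH_imK, one_def]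

@[simp] theorem toH_add (x y : Ico) : toH (x + y) = toH x + toH y := by
  ext <;> simp [toH_re, toH_imI, toH_imJ, toH_imK, add_def] <;> ring

@[simp] theorem toH_sub (x y : Ico) : toH (x - y) = toH x - toH y := by
  ext <;> simp [toH_re, toH_imI, toH_imJ, toH_imK, sub_def] <;> ring

@[simp] theorem toH_neg (x : Ico) : toH (-x) = -toH x := by
  ext <;> simp [toH_re, toH_imI, toH_imJ, toH_imK, neg_def] <;> ring

@[simp] theorem toH_conj (x : Ico) : toH (conj x) = star (toH x) := by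
  ext <;> simp [toH_re, toH_imI, toH_imJ, toH_imK, conj] <;> ring

@[simp] theorem toH_mul (x y : Ico) : toH (x * y) = toH x * toH y := by
  have h := tau_sq
  have hs := sig_eq
  ext <;> simp [toH_re, toH_imI, toH_imJ, toH_imK, mul_def] <;> grind

theorem normSq_toH (x : Ico) : Quaternion.normSq (toH x) = x.nrm.re := by
  have h := tau_sq
  rw [Quaternion.normSq_def', toH_re, toH_imI, toH_imJ, toH_imK]
  simp [nrm, sig_eq]
  grind

theorem mul_self_conj (x : Ico) : toH x * star (toH x) = (x.nrm.re : ℍ[ℝ]) := by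
  rw [Quaternion.self_mul_star, normSq_toH]

theorem toH_d (x : Ico) : x.d0 * x.d0 + x.d1 * x.d1 + x.d2 * x.d2 + x.d3 * x.d3
    = x.nrm + x.nrm + x.nrm + x.nrm := by
  refine ZT.re_injective ?_
  have h := normSq_toH x
  rw [Quaternion.normSq_def'] at h
  simp only [toH] at h
  simp only [ZT.re_add, ZT.re_mul]
  linear_combination 4 * h

end Ico

open Ico

/-- The icosian `h`. -/
def hI : Ico := ⟨⟨2, -2⟩, ⟨1, 0⟩, ⟨-1, 1⟩, ⟨1, -1⟩⟩

theorem toH_hI : toH hI = icoH := by
  have hs : Real.sqrt 5 = 2 * tau - 1 := by rw [Cfsg.Spor.tau]; ring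
  have h := tau_sq
  ext <;> simp [toH_re, toH_imI, toH_imJ, toH_imK, hI, ZT.re, icoH, sig_eq, hs] <;> grind

end CfsgLib.Icosian
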