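import Mathlib
import Cfsg.Agent.Lib.Icosian.Ring

/-!
The icosian Leech lattice in integer coordinates and the reflections in its minimal vectors.
-/

set_option autoImplicit false

noncomputable section

namespace CfsgLib.Icosian

open Quaternion
open Cfsg.Spor (sig tau qI icosians icoH leftIdeal icoLeech qip qrefl IsIcoReflection twoJ2)

/-- The coordinate map is additive and multiplicative, so its range is a subring. -/
def icoRange : Subring ℍ[ℝ] where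
  carrier := Set.range Ico.toH
  one_mem' := ⟨1, Ico.toH_one⟩
  mul_mem' := by rintro _ _ ⟨x, rfl⟩ ⟨y, rfl⟩; exact ⟨x * y, Ico.toH_mul x y⟩
  zero_mem' := ⟨0, Ico.toH_zero⟩
  add_mem' := by rintro _ _ ⟨x, rfl⟩ ⟨y, rfl⟩; exact ⟨x + y, Ico.toH_add x y⟩
  neg_mem' := by rintro _ ⟨x, rfl⟩; exact ⟨-x, Ico.toH_neg x⟩

theorem toH_scalar (z : ZT) : Ico.toH ⟨z, 0, 0, 0⟩ = (z.re : ℍ[ℝ]) := by
  ext <;> simp [Ico.toH_re, Ico.toH_imI, Ico.toH_imJ, Ico.toH_imK]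

theorem toH_i : Ico.toH ⟨0, 1, 0, 0⟩ = qI := by
  ext <;> simp [Ico.toH_re, Ico.toH_imI, Ico.toH_imJ, Ico.toH_imK, qI]

theorem toH_omega : Ico.toH ⟨0, 0, 1, 0⟩ = (⟨1 / 2, sig / 2, 0, tau / 2⟩ : ℍ[ℝ]) := by
  ext <;> simp [Ico.toH_re, Ico.toH_imI, Ico.toH_imJ, Ico.toH_imK]

theorem icosians_eq : icosians = icoRange := by
  refine le_antisymm ((Subring.closure_le).2 ?_) ?_
  · rintro x (rfl | rfl)
    · exact ⟨_, toH_i⟩
    · exact ⟨_, toH_omega⟩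
  · rintro _ ⟨x, rfl⟩
    have hi : Ico.toH ⟨0, 1, 0, 0⟩ ∈ icosians := toH_i ▸ Subring.subset_closure (Or.inl rfl)
    have hw : Ico.toH ⟨0, 0, 1, 0⟩ ∈ icosians := toH_omega ▸ Subring.subset_closure (Or.inr rfl)
    have hiw : Ico.toH ⟨0, 1, 0, 0⟩ * Ico.toH ⟨0, 0, 1, 0⟩ ∈ icosians := mul_mem hi hw
    have hsig : (sig : ℍ[ℝ]) ∈ icosians := by
      have e : (⟨ZT.s, 0, 0, 0⟩ : Ico) = ⟨0, 1, 0, 0⟩ - ⟨0, 1, 0, 0⟩ * ⟨0, 0, 1, 0⟩
          - ⟨0, 0, 1, 0⟩ * ⟨0, 1, 0, 0⟩ := by decide +kernel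
      rw [← ZT.re_s, ← toH_scalar, e, Ico.toH_sub, Ico.toH_sub, Ico.toH_mul, Ico.toH_mul]
      exact sub_mem (sub_mem hi hiw) (mul_mem hw hi)
    have hz : ∀ z : ZT, (z.re : ℍ[ℝ]) ∈ icosians := by
      intro z
      have e : (z.re : ℍ[ℝ]) = (z.a : ℍ[ℝ]) + (z.b : ℍ[ℝ]) * (1 - (sig : ℍ[ℝ])) := by
        rw [ZT.re, sig_eq]; push_cast; noncomm_ring
      rw [e]
      exact add_mem (intCast_mem _ _) (mul_mem (intCast_mem _ _) (sub_mem (one_mem _) hsig))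
    have e : x = ⟨x.a, 0, 0, 0⟩ + ⟨x.b, 0, 0, 0⟩ * ⟨0, 1, 0, 0⟩ + ⟨x.c, 0, 0, 0⟩ * ⟨0, 0, 1, 0⟩
        + ⟨x.d, 0, 0, 0⟩ * (⟨0, 1, 0, 0⟩ * ⟨0, 0, 1, 0⟩) := by
      refine Ico.ext ?_ ?_ ?_ ?_ <;>
        simp [Ico.add_def, Ico.mul_def, ZT.add_def, ZT.sub_def, ZT.mul_def, ZT.zero_def, ZT.one_def, ZT.s]
    rw [e]
    simp only [Ico.toH_add, Ico.toH_mul, toH_scalar]
    exact add_mem (add_mem (add_mem (hz _) (mul_mem (hz _) hi)) (mul_mem (hz _) hw))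
      (mul_mem (hz _) hiw)

theorem mem_icosians {x : ℍ[ℝ]} : x ∈ icosians ↔ ∃ a, Ico.toH a = x := by
  rw [icosians_eq]; exact Iff.rfl

theorem toH_mem (a : Ico) : a.toH ∈ icosians := mem_icosians.2 ⟨a, rfl⟩

theorem two_eq_hI : hI.toH * star hI.toH = 2 ∧ star hI.toH * hI.toH = 2 := by
  have h : hI.nrm = ⟨2, 0⟩ := by decide +kernel
  have h2 : (((2 : ℝ)) : ℍ[ℝ]) = 2 := rfl
  refine ⟨?_, ?_⟩
  · rw [Ico.mul_self_conj, h, ZT.re_int]
    exact_mod_cast h2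
  · rw [Quaternion.star_mul_self, Ico.normSq_toH, h, ZT.re_int]
    exact_mod_cast h2

theorem mul_left_two_inj {a b : ℍ[ℝ]} (h : a * 2 = b * 2) : a = b :=
  mul_right_cancel₀ (fun h2 => two_ne_zero (α := ℝ)
    (Quaternion.coe_injective (R := ℝ) (show ((2 : ℝ) : ℍ[ℝ]) = ((0 : ℝ) : ℍ[ℝ]) from h2))) h

theorem mem_leftIdeal_iff {g : Ico} (hg : g.toH * star g.toH = 2) (hg' : star g.toH * g.toH = 2)
    (x : Ico) : x.toH ∈ leftIdeal g.toH ↔ (x * g.conj).ev = true := by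
  constructor
  · rintro ⟨a, ha, e⟩
    obtain ⟨a, rfl⟩ := mem_icosians.1 ha
    have : x * g.conj = a + a := by
      refine Ico.toH_injective ?_
      rw [Ico.toH_mul, Ico.toH_conj, Ico.toH_add, e, mul_assoc, hg, mul_two]
    rw [this, Ico.ev_add_self]
  · intro h
    refine ⟨(Ico.half (x * g.conj)).toH, toH_mem _, mul_left_two_inj ?_⟩
    have e := congrArg Ico.toH (Ico.half_add_half h)
    rw [Ico.toH_add, Ico.toH_mul, Ico.toH_conj, ← mul_two] at e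
    rw [mul_assoc, show g.toH * 2 = 2 * g.toH from (Commute.ofNat_right g.toH 2).eq, ← mul_assoc,
      e, mul_assoc, hg']

/-- A triple of icosians. -/
@[ext] structure Vec where
  x : Ico
  y : Ico
  z : Ico
deriving DecidableEq

namespace Vec

/-- The vector in ℍ³. -/
def toV (v : Vec) : Fin 3 → ℍ[ℝ] := ![v.x.toH, v.y.toH, v.z.toH]

theorem toV_injective : Function.Injective toV := by
  intro v w h
  exact Vec.ext (Ico.toH_injective (congrFun h 0)) (Ico.toH_injective (congrFun h 1))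
    (Ico.toH_injective (congrFun h 2))

/-- The congruences defining the lattice. -/
def inL (v : Vec) : Bool :=
  ((v.x - v.y) * hI.conj).ev && ((v.y - v.z) * hI.conj).ev && ((v.x + v.y + v.z) * hI).ev

/-- The Hermitian product. -/
def ip (v w : Vec) : Ico := v.x * w.x.conj + v.y * w.y.conj + v.z * w.z.conj

/-- The squared length. -/
def len (v : Vec) : ZT := v.x.nrm + v.y.nrm + v.z.nrm

/-- Left multiplication by an icosian. -/
def lmul (a : Ico) (v : Vec) : Vec := ⟨a * v.x, a * v.y, a * v.z⟩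

/-- The reflection formula in coordinates. -/
def refl (r v : Vec) : Vec :=
  let p := Ico.half (ip v r)
  ⟨v.x - p * r.x, v.y - p * r.y, v.z - p * r.z⟩

theorem toV_lmul (a : Ico) (v : Vec) : (lmul a v).toV = fun t => a.toH * v.toV t := by
  funext t; fin_cases t <;> simp [lmul, toV]

theorem qip_toV (v w : Vec) : qip v.toV w.toV = (ip v w).toH := by
  simp [qip, Fin.sum_univ_three, toV, ip]

theorem qip_self (v : Vec) : qip v.toV v.toV = (v.len.re : ℍ[ℝ]) := by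
  simp [qip, Fin.sum_univ_three, toV, len, Ico.mul_self_conj]

theorem qip_self_four (v : Vec) : qip v.toV v.toV = 4 ↔ v.len = ⟨4, 0⟩ := by
  rw [qip_self, show (4 : ℍ[ℝ]) = ((4 : ℝ) : ℍ[ℝ]) from rfl, Quaternion.coe_inj]
  constructor
  · intro h; refine ZT.re_injective ?_; rw [h, ZT.re_int]; norm_num
  · rintro h; rw [h, ZT.re_int]; norm_num

theorem exists_toV {v : Fin 3 → ℍ[ℝ]} (h : ∀ t, v t ∈ icosians) : ∃ w : Vec, w.toV = v := by
  obtain ⟨a, ha⟩ := mem_icosians.1 (h 0)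
  obtain ⟨b, hb⟩ := mem_icosians.1 (h 1)
  obtain ⟨c, hc⟩ := mem_icosians.1 (h 2)
  exact ⟨⟨a, b, c⟩, funext fun t => by fin_cases t <;> simpa [toV]⟩

theorem mem_icoLeech_iff (v : Vec) : v.toV ∈ icoLeech ↔ v.inL = true := by
  obtain ⟨hg, hg'⟩ := two_eq_hI
  have h' : hI.conj.conj = hI := by decide +kernel
  have e1 : leftIdeal icoH = leftIdeal hI.toH := by rw [toH_hI]
  have e2 : leftIdeal (star icoH) = leftIdeal hI.conj.toH := by rw [Ico.toH_conj, toH_hI]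
  have k1 := fun x => mem_leftIdeal_iff hg hg' x
  have k2 := fun x => mem_leftIdeal_iff (g := hI.conj) (by rw [Ico.toH_conj, star_star, hg'])
    (by rw [Ico.toH_conj, star_star, hg]) x
  have hall : ∀ t, v.toV t ∈ icosians := by
    intro t; fin_cases t <;> exact toH_mem _
  show (∀ t, v.toV t ∈ icosians) ∧ _ ↔ _
  simp only [hall, implies_true, true_and, inL, Bool.and_eq_true, e1, e2]
  rw [show v.toV 0 = v.x.toH from rfl, show v.toV 1 = v.y.toH from rfl,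
    show v.toV 2 = v.z.toH from rfl, ← Ico.toH_sub, ← Ico.toH_sub, ← Ico.toH_add, ← Ico.toH_add,
    k1, k1, k2, h']
  tauto

end Vec

open Vec

theorem exists_vec {v : Fin 3 → ℍ[ℝ]} (h : v ∈ icoLeech) : ∃ w : Vec, w.inL = true ∧ w.toV = v := by
  obtain ⟨w, rfl⟩ := Vec.exists_toV h.1
  exact ⟨w, (mem_icoLeech_iff w).1 h, rfl⟩

theorem qip_mem_two_icosians {v w : Fin 3 → ℍ[ℝ]} (hv : v ∈ icoLeech) (hw : w ∈ icoLeech) :
    ∃ a ∈ icosians, qip v w = a * 2 := by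
  obtain ⟨hv0, ⟨a₁, ha₁, f₁⟩, ⟨a₂, ha₂, f₂⟩, ⟨a₃, ha₃, f₃⟩⟩ := hv
  obtain ⟨hw0, ⟨b₁, hb₁, g₁⟩, ⟨b₂, hb₂, g₂⟩, ⟨b₃, hb₃, g₃⟩⟩ := hw
  have hst : ∀ x ∈ icosians, star x ∈ icosians := by
    intro x hx
    obtain ⟨a, rfl⟩ := mem_icosians.1 hx
    exact mem_icosians.2 ⟨a.conj, Ico.toH_conj a⟩
  obtain ⟨hh, hh'⟩ : icoH * star icoH = 2 ∧ star icoH * icoH = 2 := toH_hI ▸ two_eq_hI
  have f₄ : v 2 - v 0 = (-a₁ - a₂) * icoH := by rw [sub_mul, neg_mul, ← f₁, ← f₂]; abel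
  have g₄ : w 2 - w 0 = (-b₁ - b₂) * icoH := by rw [sub_mul, neg_mul, ← g₁, ← g₂]; abel
  set Y := a₁ * star b₁ + a₂ * star b₂ + (-a₁ - a₂) * star (-b₁ - b₂) + a₃ * star b₃
  have hY : 3 * qip v w = Y * 2 := by
    have hc : ∀ a b g : ℍ[ℝ], g * star g = 2 → a * g * star (b * g) = a * star b * 2 := by
      intro a b g e
      rw [star_mul, mul_assoc, ← mul_assoc g, e, (Commute.ofNat_left 2 (star b)).eq, mul_assoc]
    calc 3 * qip v w = (v 0 - v 1) * star (w 0 - w 1) + (v 1 - v 2) * star (w 1 - w 2)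
          + (v 2 - v 0) * star (w 2 - w 0) + (v 0 + v 1 + v 2) * star (w 0 + w 1 + w 2) := by
          simp only [qip, Fin.sum_univ_three, star_sub, star_add]
          noncomm_ring
      _ = Y * 2 := by
          rw [f₁, g₁, f₂, g₂, f₄, g₄, f₃, g₃, hc _ _ _ hh, hc _ _ _ hh, hc _ _ _ hh,
            hc _ _ _ (by rwa [star_star])]
          simp only [Y, add_mul]
  refine ⟨Y - qip v w, sub_mem ?_ ?_, ?_⟩
  · refine add_mem (add_mem (add_mem ?_ ?_) ?_) ?_ <;>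
      refine mul_mem ?_ (hst _ ?_) <;>
      first
        | assumption
        | exact sub_mem (neg_mem ha₁) ha₂
        | exact sub_mem (neg_mem hb₁) hb₂
  · exact sum_mem fun t _ => mul_mem (hv0 t) (hst _ (hw0 t))
  · rw [sub_mul, ← hY]; noncomm_ring

end CfsgLib.Icosian
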