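import Mathlib
import Cfsg.Agent.Lib.Icosian.Lattice

/-!
The reflections in minimal vectors as permutations of the icosian Leech lattice.
-/

set_option autoImplicit false

noncomputable section

namespace CfsgLib.Icosian

open Quaternion
open Cfsg.Spor (sig tau qI icosians icoH leftIdeal icoLeech qip qrefl IsIcoReflection twoJ2)

/-- Vectors of quaternions. -/
abbrev QV : Type := Fin 3 → ℍ[ℝ]

theorem icoLeech_sub {u v : QV} (hu : u ∈ icoLeech) (hv : v ∈ icoLeech) : u - v ∈ icoLeech := by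
  obtain ⟨h0, ⟨a, ha, ea⟩, ⟨b, hb, eb⟩, ⟨c, hc, ec⟩⟩ := hu
  obtain ⟨h0', ⟨a', ha', ea'⟩, ⟨b', hb', eb'⟩, ⟨c', hc', ec'⟩⟩ := hv
  refine ⟨fun t => sub_mem (h0 t) (h0' t), ⟨a - a', sub_mem ha ha', ?_⟩,
    ⟨b - b', sub_mem hb hb', ?_⟩, ⟨c - c', sub_mem hc hc', ?_⟩⟩ <;>
    simp only [Pi.sub_apply, sub_mul]
  · rw [← ea, ← ea']; abel
  · rw [← eb, ← eb']; abel
  · rw [← ec, ← ec']; abel

theorem icoLeech_mul {v : QV} (hv : v ∈ icoLeech) {p : ℍ[ℝ]} (hp : p ∈ icosians) :
    (fun t => p * v t) ∈ icoLeech := by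
  obtain ⟨h0, ⟨a, ha, ea⟩, ⟨b, hb, eb⟩, ⟨c, hc, ec⟩⟩ := hv
  refine ⟨fun t => mul_mem hp (h0 t), ⟨p * a, mul_mem hp ha, ?_⟩,
    ⟨p * b, mul_mem hp hb, ?_⟩, ⟨p * c, mul_mem hp hc, ?_⟩⟩ <;>
    simp only [mul_assoc, ← mul_sub, ← mul_add, ea, eb, ec]

theorem icoLeech_add {u v : QV} (hu : u ∈ icoLeech) (hv : v ∈ icoLeech) : u + v ∈ icoLeech := by
  have h := icoLeech_sub hu (icoLeech_sub (icoLeech_sub hv hv) hv)
  simpa using h

theorem half_smul_two (a : ℍ[ℝ]) : (1 / 2 : ℝ) • (a * 2) = a := by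
  rw [mul_two, smul_add, ← add_smul, show (1 / 2 : ℝ) + 1 / 2 = 1 by norm_num, one_smul]

theorem qrefl_mem {r x : QV} (hr : r ∈ icoLeech) (hx : x ∈ icoLeech) : qrefl r x ∈ icoLeech := by
  obtain ⟨a, ha, e⟩ := qip_mem_two_icosians hx hr
  have : qrefl r x = x - fun t => a * r t := by
    funext t; rw [qrefl, e, half_smul_two]; rfl
  rw [this]
  exact icoLeech_sub hx (icoLeech_mul hr ha)

theorem mul_four (a : ℍ[ℝ]) : a * 4 = (4 : ℝ) • a := by
  rw [show (4 : ℍ[ℝ]) = ((4 : ℝ) : ℍ[ℝ]) from rfl, Quaternion.mul_coe_eq_smul]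

theorem qip_sub_mul_left (x r y : QV) (p : ℍ[ℝ]) :
    qip (fun t => x t - p * r t) y = qip x y - p * qip r y := by
  simp only [qip, sub_mul, mul_assoc, Finset.sum_sub_distrib, Finset.mul_sum]

theorem qip_sub_mul_right (x r y : QV) (p : ℍ[ℝ]) :
    qip x (fun t => y t - p * r t) = qip x y - qip x r * star p := by
  simp only [qip, star_sub, star_mul, mul_sub, mul_assoc, Finset.sum_sub_distrib, Finset.sum_mul]

theorem star_qip (x y : QV) : star (qip x y) = qip y x := by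
  simp [qip, star_mul]

theorem qip_qrefl_self {r : QV} (h : qip r r = 4) (x : QV) : qip (qrefl r x) r = -qip x r := by
  unfold qrefl
  rw [qip_sub_mul_left, h, mul_four, smul_smul]
  norm_num
  rw [two_smul]; abel

theorem qrefl_qrefl {r : QV} (h : qip r r = 4) (x : QV) : qrefl r (qrefl r x) = x := by
  funext t
  show qrefl r x t - ((1 / 2 : ℝ) • qip (qrefl r x) r) * r t = _
  rw [qip_qrefl_self h, smul_neg, neg_mul, sub_neg_eq_add, qrefl, sub_add_cancel]

theorem qrefl_adjoint (r x y : QV) : qip (qrefl r x) y = qip x (qrefl r y) := by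
  unfold qrefl
  rw [qip_sub_mul_left, qip_sub_mul_right, Quaternion.star_smul, star_qip, smul_mul_assoc,
    mul_smul_comm]

theorem qrefl_isometry {r : QV} (h : qip r r = 4) (x y : QV) :
    qip (qrefl r x) (qrefl r y) = qip x y := by
  rw [qrefl_adjoint, qrefl_qrefl h]

theorem qip_linear (p : ℍ[ℝ]) (x y r : QV) :
    qip (fun t => p * x t + y t) r = p * qip x r + qip y r := by
  simp only [qip, add_mul, mul_assoc, Finset.sum_add_distrib, Finset.mul_sum]

theorem qrefl_linear (p : ℍ[ℝ]) (r x y : QV) :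
    qrefl r (fun t => p * x t + y t) = fun t => p * qrefl r x t + qrefl r y t := by
  funext t
  simp only [qrefl, qip_linear, smul_add, add_mul, mul_sub, mul_smul_comm, smul_mul_assoc, mul_assoc]
  abel

/-- Points of the lattice. -/
abbrev Pt : Type := icoLeech

/-- The reflection in a minimal vector. -/
def reflP (r : Pt) (h : qip (r : QV) r = 4) : Equiv.Perm Pt where
  toFun x := ⟨qrefl r x, qrefl_mem r.2 x.2⟩
  invFun x := ⟨qrefl r x, qrefl_mem r.2 x.2⟩
  left_inv x := Subtype.ext (qrefl_qrefl h x)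
  right_inv x := Subtype.ext (qrefl_qrefl h x)

theorem reflP_apply (r : Pt) (h : qip (r : QV) r = 4) (x : Pt) :
    ((reflP r h x : Pt) : QV) = qrefl r x := rfl

theorem reflP_mul_self (r : Pt) (h : qip (r : QV) r = 4) : reflP r h * reflP r h = 1 :=
  Equiv.ext fun x => Subtype.ext (qrefl_qrefl h x)

theorem reflP_inv (r : Pt) (h : qip (r : QV) r = 4) : (reflP r h)⁻¹ = reflP r h :=
  inv_eq_of_mul_eq_one_right (reflP_mul_self r h)

theorem isIcoReflection_reflP (r : Pt) (h : qip (r : QV) r = 4) : IsIcoReflection (reflP r h) :=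
  ⟨r, h, fun _ => rfl⟩

theorem exists_reflP {f : Equiv.Perm Pt} (hf : IsIcoReflection f) :
    ∃ r h, f = reflP r h := by
  obtain ⟨r, h, hr⟩ := hf
  exact ⟨r, h, Equiv.ext fun x => Subtype.ext (hr x)⟩

theorem reflP_unit {r r' : Pt} (h : qip (r : QV) r = 4) (h' : qip (r' : QV) r' = 4) {u : ℍ[ℝ]}
    (hu : star u * u = 1) (e : ∀ t, (r' : QV) t = u * (r : QV) t) : reflP r h = reflP r' h' := by
  refine Equiv.ext fun x => Subtype.ext (funext fun t => ?_)
  have e' : qip (x : QV) r' = qip (x : QV) r * star u := by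
    simp only [qip, e, star_mul, Finset.sum_mul, mul_assoc]
  simp only [reflP_apply, qrefl, e', e, ← smul_mul_assoc, mul_assoc]
  rw [← mul_assoc (star u), hu, one_mul]

theorem reflP_conj {r s r' : Pt} (h : qip (r : QV) r = 4) (hs : qip (s : QV) s = 4)
    (h' : qip (r' : QV) r' = 4) (e : reflP s hs r = r') :
    reflP s hs * reflP r h * (reflP s hs)⁻¹ = reflP r' h' := by
  subst e
  rw [reflP_inv]
  refine Equiv.ext fun x => Subtype.ext ?_
  simp only [Equiv.Perm.mul_apply, reflP_apply]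
  set p := -((1 / 2 : ℝ) • qip (qrefl (s : QV) x) r)
  have e0 : qrefl (r : QV) (qrefl (s : QV) x) = fun t => p * (r : QV) t + qrefl (s : QV) x t := by
    funext t; simp only [qrefl, p, neg_mul]; abel
  rw [e0, qrefl_linear, qrefl_qrefl hs]
  funext t
  simp only [qrefl, p, neg_mul]
  rw [show qip (x : QV) (qrefl (s : QV) r) = qip (qrefl (s : QV) x) r from (qrefl_adjoint _ _ _).symm]
  abel

/-- Linear isometries of the lattice. -/
def isoGrp : Subgroup (Equiv.Perm Pt) where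
  carrier := {g | (∀ (p : ℍ[ℝ]), p ∈ icosians → ∀ x y z : Pt,
      (∀ t, (z : QV) t = p * (x : QV) t + (y : QV) t) →
      ∀ t, (g z : QV) t = p * (g x : QV) t + (g y : QV) t) ∧
    ∀ x y : Pt, qip (g x : QV) (g y) = qip (x : QV) y}
  one_mem' := ⟨fun _ _ _ _ _ h => h, fun _ _ => rfl⟩
  mul_mem' := by
    rintro f g ⟨hf, hf'⟩ ⟨hg, hg'⟩
    exact ⟨fun p hp x y z h => hf p hp _ _ _ (hg p hp x y z h),
      fun x y => (hf' _ _).trans (hg' x y)⟩
  inv_mem' := by
    rintro g ⟨hg, hg'⟩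
    refine ⟨fun p hp x y z h => ?_, fun x y => ?_⟩
    · let w : Pt := ⟨fun t => p * (g⁻¹ x : Pt).1 t + (g⁻¹ y : Pt).1 t,
        icoLeech_add (icoLeech_mul (g⁻¹ x : Pt).2 hp) (g⁻¹ y : Pt).2⟩
      have hw : ∀ t, (g w : QV) t = (z : QV) t := by
        intro t
        rw [hg p hp (g⁻¹ x) (g⁻¹ y) w (fun _ => rfl) t, h t]
        simp
      have hz : g⁻¹ z = w := by
        rw [← show g w = z from Subtype.ext (funext hw)]
        simp
      intro t; rw [hz]
    · have e := hg' (g⁻¹ x) (g⁻¹ y)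
      simpa using e.symm

theorem twoJ2_le_isoGrp : twoJ2 ≤ isoGrp := by
  refine (Subgroup.closure_le _).2 fun f hf => ?_
  obtain ⟨r, h, rfl⟩ := exists_reflP hf
  refine ⟨fun p _ x y z hz t => ?_, fun x y => qrefl_isometry h _ _⟩
  rw [reflP_apply, show (z : QV) = fun t => p * (x : QV) t + (y : QV) t from funext hz, qrefl_linear]
  rfl

theorem toV_mem {v : Vec} (h : v.inL = true) : v.toV ∈ icoLeech := (Vec.mem_icoLeech_iff v).2 h

/-- The lattice point with given coordinates. -/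
def mkPt (v : Vec) (h : v.inL = true) : Pt := ⟨v.toV, toV_mem h⟩

theorem qrefl_toV {r x : Vec} (hr : r.inL = true) (hx : x.inL = true) :
    qrefl r.toV x.toV = (Vec.refl r x).toV := by
  obtain ⟨a, ha, e⟩ := qip_mem_two_icosians (toV_mem hx) (toV_mem hr)
  obtain ⟨a, rfl⟩ := mem_icosians.1 ha
  rw [Vec.qip_toV, mul_two, ← Ico.toH_add] at e
  have e' : Vec.ip x r = a + a := Ico.toH_injective e
  funext t
  simp only [qrefl, Vec.qip_toV, e', Ico.toH_add, ← mul_two, half_smul_two]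
  fin_cases t <;> simp [Vec.toV, Vec.refl, e', Ico.half_add_self]

end CfsgLib.Icosian
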