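import Mathlib
import Cfsg.Agent.Lib.Icosian.Lattice

/-!
Positivity in ℤ[τ] and the possible norms of the components of a minimal vector.
-/

set_option autoImplicit false

namespace CfsgLib.Icosian

namespace ZT

/-- Square sum of the two coordinates of a square root. -/
def sq (x : ZT) : ℤ := x.a * x.a + x.b * x.b

/-- Both real embeddings are nonnegative. -/
def Nonneg (x : ZT) : Prop := 0 ≤ 2 * x.a + x.b ∧ 0 ≤ x.a * x.a + x.a * x.b - x.b * x.b

theorem nonneg_sq (x : ZT) : (x * x).Nonneg := by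
  obtain ⟨u, v⟩ := x
  refine ⟨?_, ?_⟩ <;> simp only [mul_def]
  · nlinarith [sq_nonneg (2 * u + v), mul_self_nonneg v]
  · nlinarith [mul_self_nonneg (u * u + u * v - v * v)]

theorem Nonneg.add {x y : ZT} (hx : x.Nonneg) (hy : y.Nonneg) : (x + y).Nonneg := by
  obtain ⟨a, b⟩ := x
  obtain ⟨c, d⟩ := y
  obtain ⟨h1, h2⟩ := hx
  obtain ⟨h3, h4⟩ := hy
  simp only at h1 h2 h3 h4
  have key : 5 * (b * d) ≤ (2 * a + b) * (2 * c + d) := by
    have e1 : 5 * (b * b) ≤ (2 * a + b) * (2 * a + b) := by nlinarith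
    have e2 : 5 * (d * d) ≤ (2 * c + d) * (2 * c + d) := by nlinarith
    by_contra hne
    push Not at hne
    have hp : 0 ≤ (2 * a + b) * (2 * c + d) := mul_nonneg h1 h3
    have h25 : 25 * ((b * b) * (d * d)) ≤
        ((2 * a + b) * (2 * a + b)) * ((2 * c + d) * (2 * c + d)) := by
      have := mul_le_mul e1 e2 (mul_nonneg (by norm_num) (mul_self_nonneg _)) (mul_self_nonneg _)
      linarith
    nlinarith [mul_self_lt_mul_self hp hne]
  refine ⟨?_, ?_⟩ <;> simp only [add_def]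
  · linarith
  · nlinarith [key]

theorem nonneg_of_four {x : ZT} (h : (x + x + x + x).Nonneg) : x.Nonneg := by
  obtain ⟨h1, h2⟩ := h
  simp only [add_def] at h1 h2
  exact ⟨by linarith, by nlinarith⟩

end ZT

namespace Ico

/-- Sum of the squared coordinates of the doubled coordinates. -/
def ball (x : Ico) : ℤ := x.d0.sq + x.d1.sq + x.d2.sq + x.d3.sq

theorem ball_eq (x : Ico) : x.ball = 4 * x.nrm.a := by
  have h := congrArg ZT.a (toH_d x)
  simp only [ZT.add_def, ZT.mul_def] at h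
  simp only [ball, ZT.sq]
  linarith

theorem ball_nonneg (x : Ico) : 0 ≤ x.ball := by
  simp only [ball, ZT.sq]
  repeat' apply add_nonneg
  all_goals exact mul_self_nonneg _

theorem nrm_nonneg (x : Ico) : x.nrm.Nonneg :=
  ZT.nonneg_of_four (toH_d x ▸
    (((ZT.nonneg_sq x.d0).add (ZT.nonneg_sq x.d1)).add (ZT.nonneg_sq x.d2)).add (ZT.nonneg_sq x.d3))

end Ico

theorem norm_cases {n m : ZT} (hn : n.Nonneg) (hm : m.Nonneg) (h : n + m = ⟨4, 0⟩) :
    (n.a, n.b) ∈ [((0 : ℤ), (0 : ℤ)), (1, 0), (1, 1), (2, -1), (2, 0), (2, 1), (3, -1), (3, 0),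
      (4, 0)] := by
  obtain ⟨p, q⟩ := n
  obtain ⟨p', q'⟩ := m
  simp only [ZT.add_def, ZT.mk.injEq] at h
  obtain ⟨h1, h2⟩ := h
  obtain ⟨a1, a2⟩ := hn
  obtain ⟨b1, b2⟩ := hm
  simp only at a1 a2 b1 b2
  obtain rfl : p' = 4 - p := by omega
  obtain rfl : q' = -q := by omega
  have hp : 0 ≤ p := by nlinarith
  have hp' : p ≤ 4 := by nlinarith
  have hq : q ≤ 8 := by omega
  have hq' : -8 ≤ q := by omega
  interval_cases p <;> interval_cases q <;> first | decide | omega

end CfsgLib.Icosian
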