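import Mathlib
import Cfsg.Agent.Lib.Icosian.Lattice
import Cfsg.Agent.Lib.Icosian.BucketData

/-!
Residues modulo two of icosians and the lattice congruences.
-/

set_option autoImplicit false

namespace CfsgLib.Icosian

/-- Oddness. -/
def oddB (x : ℤ) : Bool := x % 2 == 1

/-- Packing of eight bits. -/
def pack8 (b0 b1 b2 b3 b4 b5 b6 b7 : Bool) : ℕ :=
  Nat.bit b0 (Nat.bit b1 (Nat.bit b2 (Nat.bit b3 (Nat.bit b4 (Nat.bit b5 (Nat.bit b6 (Nat.bit b7 0)))))))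

/-- The residue modulo two. -/
def res (x : Ico) : ℕ :=
  pack8 (oddB x.a.a) (oddB x.a.b) (oddB x.b.a) (oddB x.b.b) (oddB x.c.a) (oddB x.c.b) (oddB x.d.a)
    (oddB x.d.b)

/-- Bit `i` of `n` as an integer. -/
def bitZ (n i : ℕ) : ℤ := ((n / 2 ^ i % 2 : ℕ) : ℤ)

/-- The small representative of a residue. -/
def ofRes (n : ℕ) : Ico :=
  ⟨⟨bitZ n 0, bitZ n 1⟩, ⟨bitZ n 2, bitZ n 3⟩, ⟨bitZ n 4, bitZ n 5⟩, ⟨bitZ n 6, bitZ n 7⟩⟩

theorem res_lt (x : Ico) : res x < 256 := by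
  simp only [res, pack8, Nat.bit_val]
  have h : ∀ b : Bool, b.toNat ≤ 1 := fun b => Bool.toNat_le b
  have := h (oddB x.a.a); have := h (oddB x.a.b); have := h (oddB x.b.a); have := h (oddB x.b.b)
  have := h (oddB x.c.a); have := h (oddB x.c.b); have := h (oddB x.d.a); have := h (oddB x.d.b)
  omega

theorem oddB_add (x y : ℤ) : oddB (x + y) = (oddB x != oddB y) := by
  simp only [oddB]
  rcases Int.emod_two_eq_zero_or_one x with h | h <;>
    rcases Int.emod_two_eq_zero_or_one y with h' | h' <;> simp [Int.add_emod, h, h']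

theorem oddB_sub (x y : ℤ) : oddB (x - y) = (oddB x != oddB y) := by
  simp only [oddB]
  rcases Int.emod_two_eq_zero_or_one x with h | h <;>
    rcases Int.emod_two_eq_zero_or_one y with h' | h' <;> simp [Int.sub_emod, h, h']

theorem res_add (x y : Ico) : res (x + y) = res x ^^^ res y := by
  simp [res, pack8, Ico.add_def, ZT.add_def, oddB_add, Nat.xor_bit]

theorem res_sub (x y : Ico) : res (x - y) = res x ^^^ res y := by
  simp [res, pack8, Ico.sub_def, ZT.sub_def, oddB_sub, Nat.xor_bit]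

theorem bitZ_pack (b0 b1 b2 b3 b4 b5 b6 b7 : Bool) :
    bitZ (pack8 b0 b1 b2 b3 b4 b5 b6 b7) 0 = b0.toNat ∧
    bitZ (pack8 b0 b1 b2 b3 b4 b5 b6 b7) 1 = b1.toNat ∧
    bitZ (pack8 b0 b1 b2 b3 b4 b5 b6 b7) 2 = b2.toNat ∧
    bitZ (pack8 b0 b1 b2 b3 b4 b5 b6 b7) 3 = b3.toNat ∧
    bitZ (pack8 b0 b1 b2 b3 b4 b5 b6 b7) 4 = b4.toNat ∧
    bitZ (pack8 b0 b1 b2 b3 b4 b5 b6 b7) 5 = b5.toNat ∧
    bitZ (pack8 b0 b1 b2 b3 b4 b5 b6 b7) 6 = b6.toNat ∧
    bitZ (pack8 b0 b1 b2 b3 b4 b5 b6 b7) 7 = b7.toNat := by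
  revert b0 b1 b2 b3 b4 b5 b6 b7; decide +kernel

theorem ev_sub_ofRes (x : Ico) : (x - ofRes (res x)).ev = true := by
  obtain ⟨h0, h1, h2, h3, h4, h5, h6, h7⟩ := bitZ_pack (oddB x.a.a) (oddB x.a.b) (oddB x.b.a)
    (oddB x.b.b) (oddB x.c.a) (oddB x.c.b) (oddB x.d.a) (oddB x.d.b)
  have key : ∀ n : ℤ, (n - ((oddB n).toNat : ℤ)) % 2 = 0 := by
    intro n
    simp only [oddB]
    rcases Int.emod_two_eq_zero_or_one n with h | h <;> simp [h] <;> omega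
  simp [Ico.ev, ZT.ev, Ico.sub_def, ZT.sub_def, ofRes, res, h0, h1, h2, h3, h4, h5, h6, h7, key]

theorem ev_iff (x : Ico) : x.ev = true ↔ ∃ y, y + y = x :=
  ⟨fun h => ⟨_, Ico.half_add_half h⟩, fun ⟨y, e⟩ => e ▸ Ico.ev_add_self y⟩

theorem ev_mul_ofRes (x g : Ico) : (x * g).ev = (ofRes (res x) * g).ev := by
  obtain ⟨y, hy⟩ := (ev_iff _).1 (ev_sub_ofRes x)
  have hy' : y.toH + y.toH = x.toH - (ofRes (res x)).toH := by
    rw [← Ico.toH_add, hy, Ico.toH_sub]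
  rw [Bool.eq_iff_iff, ev_iff, ev_iff]
  constructor
  · rintro ⟨z, hz⟩
    refine ⟨z - y * g, Ico.toH_injective ?_⟩
    have hz' := congrArg Ico.toH hz
    simp only [Ico.toH_add, Ico.toH_sub, Ico.toH_mul] at hz' ⊢
    rw [show z.toH - y.toH * g.toH + (z.toH - y.toH * g.toH)
      = z.toH + z.toH - (y.toH + y.toH) * g.toH by noncomm_ring, hz', hy']
    noncomm_ring
  · rintro ⟨z, hz⟩
    refine ⟨z + y * g, Ico.toH_injective ?_⟩
    have hz' := congrArg Ico.toH hz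
    simp only [Ico.toH_add, Ico.toH_mul] at hz' ⊢
    rw [show z.toH + y.toH * g.toH + (z.toH + y.toH * g.toH)
      = z.toH + z.toH + (y.toH + y.toH) * g.toH by noncomm_ring, hz', hy']
    noncomm_ring

theorem ih_table : ∀ n : Fin 256, (ofRes n * hI.conj).ev = ihTab.contains (n : ℕ) ∧
    (ofRes n * hI).ev = ihbTab.contains (n : ℕ) := by
  decide +kernel

theorem dTab_table : ∀ n : Fin 256, ∀ b ∈ ihTab,
    ihbTab.contains ((n : ℕ) ^^^ b) = true → b = dTab.getD n 0 := by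
  decide +kernel

theorem res_cases {v : Vec} (h : v.inL = true) :
    ∃ a ∈ ihTab, res v.y = res v.x ^^^ a ∧ res v.z = res v.y ^^^ dTab.getD (res v.x) 0 := by
  simp only [Vec.inL, Bool.and_eq_true] at h
  obtain ⟨⟨h1, h2⟩, h3⟩ := h
  rw [ev_mul_ofRes] at h1 h2 h3
  rw [(ih_table ⟨_, res_lt _⟩).1, List.contains_iff_mem] at h1 h2
  rw [(ih_table ⟨_, res_lt _⟩).2] at h3
  simp only [res_sub, res_add] at h1 h2 h3
  refine ⟨_, h1, by rw [← Nat.xor_assoc, Nat.xor_self, Nat.zero_xor], ?_⟩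
  rw [← dTab_table ⟨_, res_lt v.x⟩ _ h2 (by rwa [Fin.val_mk, ← Nat.xor_assoc]),
    ← Nat.xor_assoc, Nat.xor_self, Nat.zero_xor]

end CfsgLib.Icosian
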