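import Mathlib
import Cfsg.Agent.Lib.Icosian.Parity
import Cfsg.Agent.Lib.Icosian.Norms

/-!
Every icosian in the ball of radius four is in the bucket of its residue and norm.
-/

set_option autoImplicit false
set_option Elab.async false
set_option maxRecDepth 100000

namespace CfsgLib.Icosian

/-- Decoding of an icosian. -/
def Ico.dec (c : ℕ) : Ico :=
  let g : ℕ → ℤ := fun i => ((c / 32 ^ i % 32 : ℕ) : ℤ) - 16
  ⟨⟨g 0, g 1⟩, ⟨g 2, g 3⟩, ⟨g 4, g 5⟩, ⟨g 6, g 7⟩⟩

/-- The bucket of a residue and a norm index. -/
def buck (r i : ℕ) : List ℕ := ((buckTab.getD (r / 16) []).getD (r % 16) []).getD i []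

/-- The position, plus one, of each norm key, four bits for each key. -/
def normTable : ℕ := 0x900000000000000000000000000000000000000000000000000000000000000000000000000000000000000000000000000000000000000000000000000000000000000000000000000000000000000000000000000000000000000000000000000000000000000000000000000000000000000000000000000000000000000000000000000000000000000000000000000000000000000000000000000000000000000000000000000000000000000000000000000000000000000000000000000000000000000000000000000000000000000000000000000000000000000000000000000000000000000000000000000000000000000000000000000000000000000000000000000000000000000000000000000000000000000000000000000000000000000000000000000000000000000000000000000000000000000000000000000000000000000000000000000000000000000000000000000000000000000000000000000000000000000000000000000000000000000000000000000000000000000000000000000000000000000000000000000000000000000000000000000000000000000000000000000000000000000000000000000000000000000000000000000000000000000000000000000000000000000000000000000000000000000000000000000000000000000000000000000000000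00000008000700000000000000000000000000000000000000000000000000000000000000000000000000000000000000000000000000000000000000000000000000000000000000000000000000000000000000000000000000000000000000000000000000000000000000000000000000000000000000000000000000000000000000000000000000000000000000000000000000000000000000000000000000000000000000000000000000000000000000000000000000000000000000000000000000000000000000000000000000000000000000000000000000000000000000000000000000000000000000000000000000000000000000000000000000000000000000000000000000000000000000000000000000000000000000000000000000000000000000000000000000000000000000000000000000000000000000000000000000000000000000000000000000000000000000000000000000000000000000000000000000000000000000000000000000000000000000000000000000000000000000000000000000000000000000000000000000000000000000000000000000000000000000000000000000000000000000000000000000000000000000000000000000000000000000000000000000000000000000000000000000000000000000000000000000000000000000000000000000000006000500040000000000000000000000000000000000000000000000000000000000000000000000000000000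00000000000000000000000000000000000000000000000000000000000000000000000000000000000000000000000000000000000000000000000000000000000000000000000000000000000000000000000000000000000000000000000000000000000000000000000000000000000000000000000000000000000000000000000000000000000000000000000000000000000000000000000000000000000000000000000000000000000000000000000000000000000000000000000000000000000000000000000000000000000000000000000000000000000000000000000000000000000000000000000000000000000000000000000000000000000000000000000000000000000000000000000000000000000000000000000000000000000000000000000000000000000000000000000000000000000000000000000000000000000000000000000000000000000000000000000000000000000000000000000000000000000000000000000000000000000000000000000000000000000000000000000000000000000000000000000000000000000000000000000000000000000000000000000000000000000000000000000000000000000000000000000000000000000000000000000030002000000000000000000000000000000000000000000000000000000000000000000000000000000000000000000000000000000000000000000000000000000000000000000000000000000000000000000000000000000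000000000000000000000000000000000000000000000000000000000000000000000000000000000000000000000000000000000000000000000000000000000000000000000000000000000000000000000000000000000000000000000000000000000000000000000000000000000000000000000000000000000000000000000000000000000000000000000000000000000000000000000000000000000000000000000000000000000000000000000000000000000000000000000000000000000000000000000000000000000000000000000000000000000000000000000000000000000000000000000000000000000000000000000000000000000000000000000000000000000000000000000000000000000000000000000000000000000000000000000000000000000000000000000000000000000000000000000000000000000000000000000000000000000000000000000000000000000000000000000000000000000000000000000000000000000000000000000000000000000000000000000000000000000000000000000000000000000000000000000000000000000100000000000000000000000000000000000000000000000000000000000000000000000000000000000000000000000000000000000000000000000000000000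

/-- A leaf of the search is found in its bucket. -/
def okLeaf (i : ℕ) (a : Ico) : Bool := (buck (res a) i).any (fun c => Ico.dec c == a)

/-- Points of the disc of one parity class with their keys. -/
def cls0 : List (ℕ × ZT) := [(4128, ⟨-4, 0⟩), (2092, ⟨-2, -2⟩), (1056, ⟨-2, 0⟩), (2076, ⟨-2, 2⟩), (4144, ⟨0, -4⟩), (1060, ⟨0, -2⟩), (32, ⟨0, 0⟩), (1060, ⟨0, 2⟩), (4144, ⟨0, 4⟩), (2076, ⟨2, -2⟩), (1056, ⟨2, 0⟩), (2092, ⟨2, 2⟩), (4128, ⟨4, 0⟩)]

/-- Points of the disc of one parity class with their keys. -/
def cls1 : List (ℕ × ZT) := [(3381, ⟨-2, -3⟩), (1317, ⟨-2, -1⟩), (1309, ⟨-2, 1⟩), (3357, ⟨-2, 3⟩), (2345, ⟨0, -3⟩), (289, ⟨0, -1⟩), (289, ⟨0, 1⟩), (2345, ⟨0, 3⟩), (3357, ⟨2, -3⟩), (1309, ⟨2, -1⟩), (1317, ⟨2, 1⟩), (3381, ⟨2, 3⟩)]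

/-- Points of the disc of one parity class with their keys. -/
def cls2 : List (ℕ × ZT) := [(3376, ⟨-3, -2⟩), (2336, ⟨-3, 0⟩), (3352, ⟨-3, 2⟩), (1320, ⟨-1, -2⟩), (288, ⟨-1, 0⟩), (1312, ⟨-1, 2⟩), (1312, ⟨1, -2⟩), (288, ⟨1, 0⟩), (1320, ⟨1, 2⟩), (3352, ⟨3, -2⟩), (2336, ⟨3, 0⟩), (3376, ⟨3, 2⟩)]

/-- Points of the disc of one parity class with their keys. -/
def cls3 : List (ℕ × ZT) := [(2599, ⟨-3, -1⟩), (2587, ⟨-3, 1⟩), (2607, ⟨-1, -3⟩), (547, ⟨-1, -1⟩), (543, ⟨-1, 1⟩), (2595, ⟨-1, 3⟩), (2595, ⟨1, -3⟩), (543, ⟨1, -1⟩), (547, ⟨1, 1⟩), (2607, ⟨1, 3⟩), (2587, ⟨3, -1⟩), (2599, ⟨3, 1⟩)]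

/-- The points of one parity class. -/
def cls (e : ZT) : List (ℕ × ZT) :=
  if e.a % 2 = 0 then (if e.b % 2 = 0 then cls0 else cls1) else (if e.b % 2 = 0 then cls2 else cls3)

/-- All the points with keys. -/
def discK : List (ℕ × ZT) := cls0 ++ cls1 ++ cls2 ++ cls3

/-- The search below a value of the last doubled coordinate. -/
def okFrom (k : ℕ × ZT) : Bool :=
  let c := -(ZT.s * k.2)
  let e1c := ZT.s * c
  discK.all fun j =>
    let kj := k.1 + j.1
    Nat.ble 4352 kj ||
      let d := ZT.s * j.2
      let e0 := c - ZT.s * d
      let e1 := e1c + d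
      let l1 := cls e1
      (cls e0).all fun p =>
        let kp := kj + p.1
        Nat.ble 4352 kp ||
          l1.all fun q =>
            let i := (normTable >>> (4 * (kp + q.1))) % 16
            Nat.beq i 0 || okLeaf (i - 1) ⟨(p.2 - e0).half, (q.2 - e1).half, c, d⟩

theorem okFrom_cls0 : cls0.all okFrom = true := by decide +kernel

theorem okFrom_cls1 : cls1.all okFrom = true := by decide +kernel

theorem okFrom_cls2 : cls2.all okFrom = true := by decide +kernel

theorem okFrom_cls3 : cls3.all okFrom = true := by decide +kernel

theorem okFrom_all : discK.all okFrom = true := by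
  simp only [discK, List.all_append, okFrom_cls0, okFrom_cls1, okFrom_cls2, okFrom_cls3, Bool.and_self]

/-- Small integers. -/
def smallZ : List ℤ := [-4, -3, -2, -1, 0, 1, 2, 3, 4]

/-- The key of a point of the disc. -/
def dkey (x : ZT) : ℕ := (256 * (x.a * x.a + x.b * x.b) + 2 * x.a * x.b + x.b * x.b + 32).toNat

theorem disc_table : ∀ u ∈ smallZ, ∀ v ∈ smallZ, u * u + v * v ≤ 16 →
    (dkey ⟨u, v⟩, (⟨u, v⟩ : ZT)) ∈ cls ⟨u, v⟩ ∧ (dkey ⟨u, v⟩, (⟨u, v⟩ : ZT)) ∈ discK ∧
    (dkey ⟨u, v⟩ : ℤ) = 256 * (u * u + v * v) + 2 * u * v + v * v + 32 := by
  decide +kernel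

theorem disc_mem {x : ZT} (h : x.sq ≤ 16) :
    (dkey x, x) ∈ cls x ∧ (dkey x, x) ∈ discK ∧
    (dkey x : ℤ) = 256 * (x.a * x.a + x.b * x.b) + 2 * x.a * x.b + x.b * x.b + 32 := by
  obtain ⟨u, v⟩ := x
  simp only [ZT.sq] at h
  have hm : ∀ n : ℤ, n * n ≤ 16 → n ∈ smallZ := by
    intro n hn
    have h1 : -4 ≤ n := by nlinarith
    have h2 : n ≤ 4 := by nlinarith
    interval_cases n <;> decide
  exact disc_table u (hm u (by nlinarith)) v (hm v (by nlinarith)) h

theorem cls_congr {x y : ZT} (h : (x - y).ev = true) : cls y = cls x := by
  simp only [ZT.ev, ZT.sub_def, Bool.and_eq_true, beq_iff_eq] at h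
  have ha : y.a % 2 = x.a % 2 := by omega
  have hb : y.b % 2 = x.b % 2 := by omega
  simp only [cls, ha, hb]

theorem normTable_spec : ∀ i : Fin 9,
    (normTable >>> (4 * (256 * 4 * (normTab.getD i (0, 0)).1 + 128
      + 4 * (normTab.getD i (0, 0)).2).toNat)) % 16 = (i : ℕ) + 1 := by
  decide +kernel

theorem leaf_found {a : Ico} {i : ℕ} (hi : i < 9) (hn : (a.nrm.a, a.nrm.b) = normTab.getD i (0, 0))
    (hb : a.ball ≤ 16) : ∃ c ∈ buck (res a) i, Ico.dec c = a := by
  have h0 : 0 ≤ a.d0.sq := add_nonneg (mul_self_nonneg _) (mul_self_nonneg _)
  have h1 : 0 ≤ a.d1.sq := add_nonneg (mul_self_nonneg _) (mul_self_nonneg _)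
  have h2 : 0 ≤ a.d2.sq := add_nonneg (mul_self_nonneg _) (mul_self_nonneg _)
  have h3 : 0 ≤ a.d3.sq := add_nonneg (mul_self_nonneg _) (mul_self_nonneg _)
  simp only [Ico.ball] at hb
  obtain ⟨m0, -, k0⟩ := disc_mem (x := a.d0) (by linarith)
  obtain ⟨m1, -, k1⟩ := disc_mem (x := a.d1) (by linarith)
  obtain ⟨-, m2, k2⟩ := disc_mem (x := a.d2) (by linarith)
  obtain ⟨-, m3, k3⟩ := disc_mem (x := a.d3) (by linarith)
  have hc : -(ZT.s * a.d3) = a.c := by
    simp [Ico.d3, ZT.t, ZT.s, ZT.mul_def, ZT.neg_def]
  have hd : ZT.s * a.d2 = a.d := by
    simp [Ico.d2, ZT.t, ZT.s, ZT.mul_def, ZT.neg_def]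
  have hx : a.d0 - (a.c - ZT.s * a.d) = a.a + a.a := by
    simp [Ico.d0, ZT.add_def, ZT.sub_def, ZT.mul_def, ZT.s]
  have hy : a.d1 - (ZT.s * a.c + a.d) = a.b + a.b := by
    simp [Ico.d1, ZT.add_def, ZT.sub_def, ZT.mul_def, ZT.s]
  have hsum : ((dkey a.d3 + dkey a.d2 + dkey a.d0 + dkey a.d1 : ℕ) : ℤ)
      = 256 * 4 * a.nrm.a + 128 + 4 * a.nrm.b := by
    have e1 := congrArg ZT.a (Ico.toH_d a)
    have e2 := congrArg ZT.b (Ico.toH_d a)
    simp only [ZT.add_def, ZT.mul_def] at e1 e2
    push_cast
    rw [k0, k1, k2, k3]
    linarith
  have hK : normTable >>> (4 * (dkey a.d3 + dkey a.d2 + dkey a.d0 + dkey a.d1)) % 16 = i + 1 := by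
    rw [← normTable_spec ⟨i, hi⟩]
    congr
    rw [Fin.val_mk, ← hn]
    dsimp only
    omega
  have hlt : ∀ y : ℕ, y ≤ dkey a.d3 + dkey a.d2 + dkey a.d0 → Nat.ble 4352 y = false := by
    intro y hy'
    rw [← Bool.not_eq_true, Nat.ble_eq]
    intro hy0
    have hy1 : (y : ℤ) ≤ (dkey a.d3 : ℤ) + dkey a.d2 + dkey a.d0 := by exact_mod_cast hy'
    have hy2 : (4352 : ℤ) ≤ y := by exact_mod_cast hy0
    have q : ∀ u v : ℤ, 2 * u * v + v * v ≤ 2 * (u * u + v * v) := fun u v => by
      nlinarith [mul_self_nonneg (u - v), mul_self_nonneg u]
    have := q a.d3.a a.d3.b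
    have := q a.d2.a a.d2.b
    have := q a.d0.a a.d0.b
    simp only [ZT.sq] at h0 h1 h2 h3 hb
    linarith
  have hq := List.all_eq_true.1 okFrom_all _ m3
  simp only [okFrom] at hq
  rw [hc] at hq
  have hj := List.all_eq_true.1 hq _ m2
  simp only [hd, hlt _ (show dkey a.d3 + dkey a.d2 ≤ _ by omega), Bool.false_or] at hj
  rw [cls_congr (hx ▸ ZT.ev_add_self a.a)] at hj
  have hp := List.all_eq_true.1 hj _ m0
  simp only [hlt _ le_rfl, Bool.false_or] at hp
  rw [cls_congr (hy ▸ ZT.ev_add_self a.b)] at hp
  have hl := List.all_eq_true.1 hp _ m1
  simp only [hK, hx, hy, ZT.half_two_mul, Nat.add_sub_cancel, okLeaf, Bool.or_eq_true, Nat.beq_eq,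
    Nat.succ_ne_zero, false_or, List.any_eq_true, beq_iff_eq] at hl
  exact hl

end CfsgLib.Icosian
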