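import Mathlib
import Cfsg.Agent.Lib.Icosian.Refl
import Cfsg.Agent.Lib.Icosian.Leaves
import Cfsg.Agent.Lib.Icosian.Data

/-!
The 315 representatives and the units.
-/

set_option autoImplicit false
set_option maxRecDepth 100000

noncomputable section

namespace CfsgLib.Icosian

open Quaternion
open Cfsg.Spor (icoLeech qip qrefl)

/-- Decoding of a vector. -/
def Vec.dec (c : ℕ) : Vec :=
  ⟨Ico.dec (c % 2 ^ 40), Ico.dec (c / 2 ^ 40 % 2 ^ 40), Ico.dec (c / 2 ^ 80)⟩

/-- The representative with a given index. -/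
def rep (i : ℕ) : Vec := Vec.dec (repCodes.getD i 0)

/-- The unit with a given index. -/
def unit (u : ℕ) : Ico := Ico.dec (unitCodes.getD u 0)

theorem reps_ok : (List.range 315).all (fun i => (rep i).inL && decide ((rep i).len = ⟨4, 0⟩)) = true := by
  decide +kernel

theorem units_ok : (List.range 120).all (fun u => decide ((unit u).nrm = ⟨1, 0⟩)) = true := by
  decide +kernel

theorem units_nodup : unitCodes.Nodup ∧ (unitCodes.map Ico.dec).Nodup := by decide +kernel

theorem rep_inL (i : Fin 315) : (rep i).inL = true := by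
  have h := List.all_eq_true.1 reps_ok i (List.mem_range.2 i.2)
  exact ((Bool.and_eq_true_iff).1 h).1

theorem rep_len (i : Fin 315) : (rep i).len = ⟨4, 0⟩ := by
  have h := List.all_eq_true.1 reps_ok i (List.mem_range.2 i.2)
  exact of_decide_eq_true ((Bool.and_eq_true_iff).1 h).2

/-- The representative as a lattice point. -/
def repPt (i : Fin 315) : Pt := mkPt (rep i) (rep_inL i)

theorem qip_repPt (i : Fin 315) : qip (repPt i : QV) (repPt i) = 4 :=
  (Vec.qip_self_four _).2 (rep_len i)

/-- The 315 reflections. -/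
def F (i : Fin 315) : Equiv.Perm Pt := reflP (repPt i) (qip_repPt i)

theorem unit_mul_star {u : ℕ} (hu : u < 120) :
    (unit u).toH * star (unit u).toH = 1 ∧ star (unit u).toH * (unit u).toH = 1 := by
  have h : (unit u).nrm = ⟨1, 0⟩ :=
    of_decide_eq_true (List.all_eq_true.1 units_ok u (List.mem_range.2 hu))
  constructor
  · rw [Quaternion.self_mul_star, Ico.normSq_toH, h, ZT.re_int]
    simp
  · rw [Quaternion.star_mul_self, Ico.normSq_toH, h, ZT.re_int]
    simp

/-- The first two of the vectors `2e`. -/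
def axisVec : Fin 2 → Vec := ![⟨⟨⟨2, 0⟩, 0, 0, 0⟩, 0, 0⟩, ⟨0, ⟨⟨2, 0⟩, 0, 0, 0⟩, 0⟩]

theorem axisVec_inL : ∀ s, (axisVec s).inL = true := by decide +kernel

/-- Coordinates of an icosian as one number. -/
def Ico.code (x : Ico) : ℕ :=
  let f : ℤ → ℕ := fun z => (z + 64).toNat
  f x.a.a + 128 * (f x.a.b + 128 * (f x.b.a + 128 * (f x.b.b + 128 * (f x.c.a + 128 * (f x.c.b +
    128 * (f x.d.a + 128 * f x.d.b))))))

/-- An invariant of the line of a minimal vector. -/
def lineKey (r : Vec) : ℕ :=
  let v := Vec.refl r (axisVec 0)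
  let w := Vec.refl r (axisVec 1)
  v.x.code + 2 ^ 56 * (v.y.code + 2 ^ 56 * (v.z.code + 2 ^ 56 * (w.x.code + 2 ^ 56 * (w.y.code +
    2 ^ 56 * w.z.code))))

/-- The invariants of the representatives. -/
def keys : List ℕ := (List.range 315).map fun i => lineKey (rep i)

/-- The indices of the generators. -/
def gIdx (k : Fin 4) : Fin 315 := ⟨genIdx.getD k 0 % 315, Nat.mod_lt _ (by norm_num)⟩

/-- The tables of images. -/
def piL (k : Fin 4) : List ℕ := ![piTab0, piTab1, piTab2, piTab3] k

/-- The tables of unit multipliers. -/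
def unitL (k : Fin 4) : List ℕ := ![unitTab0, unitTab1, unitTab2, unitTab3] k

/-- The image of an index under a generator. -/
def piFun (k : Fin 4) (i : Fin 315) : Fin 315 := ⟨(piL k).getD i 0 % 315, Nat.mod_lt _ (by norm_num)⟩

/-- The check of one column. -/
def stepOK (k : Fin 4) (i : ℕ) : Bool :=
  let u := (unitL k).getD i 0
  Nat.blt u 120 &&
    decide (Vec.refl (rep (gIdx k)) (rep i) = Vec.lmul (unit u) (rep ((piL k).getD i 0 % 315)))

/-- The indices in five blocks. -/
theorem range_315 : List.range 315 =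
    List.range' 0 63 ++ (List.range' 63 63 ++ (List.range' 126 63 ++ (List.range' 189 63 ++ List.range' 252 63))) := by
  decide +kernel

end CfsgLib.Icosian
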