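import Mathlib
import Cfsg.Agent.Lib.Icosian.Reps
import Cfsg.Agent.Lib.Sporadic.HallJanko

/-!
The 315 involutions of the group on a hundred points matching the reflections.
-/

set_option autoImplicit false
set_option maxRecDepth 100000

noncomputable section

namespace CfsgLib.Icosian

open CfsgLib.Sporadic CfsgLib.Sporadic.PermCode

/-- The code of an involution. -/
def tc (i : ℕ) : ℕ := invCodes.getD i HallJanko.one

theorem invCodes_nodup : invCodes.Nodup ∧ invCodes.length = 315 := by decide +kernel

theorem tc_canon : (List.range 315).all (fun i => canon (tc i)) = true := by decide +kernel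

theorem tc_sq : (List.range 315).all (fun i => mul (tc i) (tc i) == HallJanko.one) = true := by
  decide +kernel

/-- One column of the conjugation table on a hundred points. -/
def conjOK (k : Fin 4) (i : ℕ) : Bool :=
  let s := tc (gIdx k)
  let a := tc i
  let b := tc ((piL k).getD i 0 % 315)
  (List.range 100).all fun p => img s (img a p) == img b (img s p)

theorem conjOK_0 : (List.range 315).all (conjOK 0) = true := by decide +kernel
theorem conjOK_1 : (List.range 315).all (conjOK 1) = true := by decide +kernel
theorem conjOK_2 : (List.range 315).all (conjOK 2) = true := by decide +kernel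
theorem conjOK_3 : (List.range 315).all (conjOK 3) = true := by decide +kernel

theorem gen_words : invWords.map (genWord mul HallJanko.one HallJanko.gens) =
    (List.range 4).map (fun k => tc (genIdx.getD k 0 % 315)) := by decide +kernel

theorem grp_words : genWords.map (genWord mul HallJanko.one ((List.range 4).map fun k => tc (genIdx.getD k 0 % 315)))
    = HallJanko.gens := by decide +kernel

theorem tc_sq' (i : Fin 315) : dec (tc i) * dec (tc i) = 1 := by
  rw [← hmul, beq_iff_eq.1 (List.all_eq_true.1 tc_sq i (List.mem_range.2 i.2)), HallJanko.hone]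

/-- An involution on a hundred points. -/
def T (i : Fin 315) : Equiv.Perm HallJanko.Pt :=
  ofCodes (tc i) (tc i) (fun p => congrFun (tc_sq' i) p) (fun p => congrFun (tc_sq' i) p)

theorem emb_T (i : Fin 315) : emb (T i) = dec (tc i) := emb_ofCodes _ _ _ _

theorem T_injective : Function.Injective T := by
  intro i j h
  have hd : dec (tc i) = dec (tc j) := by rw [← emb_T, ← emb_T, h]
  have e := hinj _ _ (List.all_eq_true.1 tc_canon i (List.mem_range.2 i.2))
    (List.all_eq_true.1 tc_canon j (List.mem_range.2 j.2)) hd
  have hi : (i : ℕ) < invCodes.length := invCodes_nodup.2.symm ▸ i.2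
  have hj : (j : ℕ) < invCodes.length := invCodes_nodup.2.symm ▸ j.2
  rw [tc, tc, List.getD_eq_getElem _ _ hi, List.getD_eq_getElem _ _ hj] at e
  exact Fin.ext ((List.Nodup.getElem_inj_iff invCodes_nodup.1).1 e)

theorem conj_T (k : Fin 4) (i : Fin 315) : T (gIdx k) * T i * (T (gIdx k))⁻¹ = T (piFun k i) := by
  have h : (List.range 315).all (conjOK k) = true := by
    fin_cases k
    exacts [conjOK_0, conjOK_1, conjOK_2, conjOK_3]
  have h' := List.all_eq_true.1 h i (List.mem_range.2 i.2)
  simp only [conjOK, List.all_eq_true, beq_iff_eq, List.mem_range] at h'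
  rw [mul_inv_eq_iff_eq_mul]
  refine Equiv.ext fun p => Fin.ext ?_
  simp only [Equiv.Perm.mul_apply]
  rw [apply_eq (emb_T _), apply_eq (emb_T _), apply_eq (emb_T _), apply_eq (emb_T _)]
  exact h' p p.2

end CfsgLib.Icosian
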