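import Mathlib
import Cfsg.Agent.Lib.Icosian.Involutions
import Cfsg.Agent.Lib.Icosian.CentralizerData

/-!
Certificates on codes for an involution centraliser in the Hall-Janko group.
-/

set_option autoImplicit false
set_option maxRecDepth 100000

noncomputable section

namespace CfsgLib.Icosian.Cent

open CfsgLib.Sporadic CfsgLib.Sporadic.PermCode

/-- Equality of two products. -/
def prodEq (a b c d : ℕ) : Bool := (List.range 100).all fun p => img a (img b p) == img c (img d p)

/-- A generator code. -/
def hc (j : ℕ) : ℕ := hCodes.getD j HallJanko.one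

/-- A code of the normal subgroup. -/
def qc (i : ℕ) : ℕ := qCodes.getD i HallJanko.one

/-- The pairs. -/
def pa (i : ℕ) : ℕ × ℕ := pairCodes.getD i (HallJanko.one, HallJanko.one)

/-- The image table. -/
def im (j i : ℕ) : ℕ := (imgTab.getD j []).getD i 0

theorem h_inv : ∀ j : Fin 2, ∀ p : Fin 100, img (hInvCodes.getD j HallJanko.one) (img (hc j) p) = p ∧
    img (hc j) (img (hInvCodes.getD j HallJanko.one) p) = p := by decide +kernel

theorem h_word : hWords.map (genWord mul HallJanko.one HallJanko.gens) = hCodes := by decide +kernel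

theorem q_word : qWords.map (genWord mul HallJanko.one hCodes) = qCodes := by decide +kernel

theorem q_canon : qCodes.Nodup ∧ qCodes.length = 32 ∧ qCodes.all canon = true ∧
    qc 0 = HallJanko.one ∧ qc 7 = tc 0 := by decide +kernel

theorem h_comm : ∀ j : Fin 2, prodEq (hc j) (tc 0) (tc 0) (hc j) = true := by decide +kernel

theorem pair_nodup : (pairCodes.map Prod.fst ++ pairCodes.map Prod.snd).Nodup ∧ pairCodes.length = 5 ∧
    (pairCodes.map Prod.fst ++ pairCodes.map Prod.snd).all canon = true ∧
    (pairCodes.map Prod.fst ++ pairCodes.map Prod.snd).all (fun c => mul c c == HallJanko.one) = true := by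
  decide +kernel

theorem h_pairs : ∀ j : Fin 2, ∀ i : Fin 5,
    let a := pa i
    let b := pa (im j i % 5)
    (prodEq (hc j) a.1 b.1 (hc j) && prodEq (hc j) a.2 b.2 (hc j) ||
      prodEq (hc j) a.1 b.2 (hc j) && prodEq (hc j) a.2 b.1 (hc j)) = true := by
  decide +kernel

theorem q_pairs : ∀ q : Fin 32, ∀ i : Fin 5,
    let a := pa i
    (prodEq (qc q) a.1 a.1 (qc q) && prodEq (qc q) a.2 a.2 (qc q) ||
      prodEq (qc q) a.1 a.2 (qc q) && prodEq (qc q) a.2 a.1 (qc q)) = true := by
  decide +kernel

theorem q_sq : ∀ i : Fin 32, (prodEq (qc i) (qc i) (qc 0) (qc 0) || prodEq (qc i) (qc i) (qc 0) (qc 7))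
    = true := by decide +kernel

theorem q_comm : (List.range 32).all (fun i => (List.range 32).all fun j =>
    prodEq (qc i) (qc j) (qc j) (qc i) ||
      (List.range 100).all fun p =>
        img (qc i) (img (qc j) p) == img (qc 7) (img (qc j) (img (qc i) p))) = true := by
  decide +kernel

theorem q_center : (List.range 32).all (fun i => i == 0 || i == 7 ||
    (List.range 32).any fun j => !prodEq (qc i) (qc j) (qc j) (qc i)) = true := by
  decide +kernel

theorem q_noncomm : (List.range 32).any (fun i => (List.range 32).any fun j =>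
    !prodEq (qc i) (qc j) (qc j) (qc i)) = true := by decide +kernel

end CfsgLib.Icosian.Cent
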