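import Mathlib
import Cfsg.Prelude.Def_Transfer
import Cfsg.Agent.Lib.PGroup.Frattini

/-!
A criterion for extraspecial two-groups.
-/

set_option autoImplicit false

namespace CfsgLib.Icosian

open scoped commutatorElement

universe u

theorem isExtraspecial_of_table {P : Type u} [Group P] [Finite P] (hP : IsPGroup 2 P) {z : P}
    (hz1 : z ≠ 1) (hzz : z * z = 1) (hzc : ∀ x : P, z * x = x * z)
    (hsq : ∀ x : P, x * x = 1 ∨ x * x = z)
    (hcomm : ∀ x y : P, x * y = y * x ∨ x * y = z * (y * x))
    (hcen : ∀ x : P, (∀ y, x * y = y * x) → x = 1 ∨ x = z)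
    (hnc : ∃ x y : P, x * y ≠ y * x) : Cfsg.IsExtraspecial 2 P := by
  have : Fact (Nat.Prime 2) := ⟨Nat.prime_two⟩
  have hord : orderOf z = 2 := orderOf_eq_prime (by rw [pow_two, hzz]) hz1
  have hC : Subgroup.center P = Subgroup.zpowers z := by
    refine le_antisymm (fun x hx => ?_) (Subgroup.zpowers_le.2 (Subgroup.mem_center_iff.2 fun g => (hzc g).symm))
    rcases hcen x (fun y => (Subgroup.mem_center_iff.1 hx y).symm) with rfl | rfl
    · exact one_mem _
    · exact Subgroup.mem_zpowers _
  have hzC : z ∈ Subgroup.center P := hC ▸ Subgroup.mem_zpowers z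
  have hD : commutator P = Subgroup.center P := by
    refine le_antisymm ?_ ?_
    · rw [commutator_def, Subgroup.commutator_le]
      intro x _ y _
      rcases hcomm x y with h | h
      · rw [commutatorElement_eq_one_iff_mul_comm.2 h]; exact one_mem _
      · rw [show ⁅x, y⁆ = z by rw [commutatorElement_def, h]; group]
        exact hzC
    · rw [hC, Subgroup.zpowers_le]
      obtain ⟨x, y, h⟩ := hnc
      have h' := (hcomm x y).resolve_left h
      rw [show z = ⁅x, y⁆ by rw [commutatorElement_def, h']; group, commutator_def]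
      exact Subgroup.commutator_mem_commutator (Subgroup.mem_top _) (Subgroup.mem_top _)
  have hsqC : ∀ x : P, x ^ 2 ∈ Subgroup.center P := fun x => by
    rw [pow_two]
    rcases hsq x with h | h <;> rw [h]
    exacts [one_mem _, hzC]
  refine ⟨⟨hP, le_antisymm ?_ ?_, hD⟩, ?_⟩
  · exact CfsgLib.PGroup.frattini_le_of (p := 2) _ hD.le hsqC
  · rw [← hD]
    exact CfsgLib.PGroup.commutator_le_frattini hP
  · rw [hC, Nat.card_zpowers, hord]

end CfsgLib.Icosian
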