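import Mathlib
import Cfsg.Agent.Lib.Icosian.KeysTable

/-!
Further invariants.
-/

set_option autoImplicit false
set_option maxRecDepth 100000
set_option Elab.async false

noncomputable section

namespace CfsgLib.Icosian

theorem keys_chunk2 : (List.range' 126 63).map (fun i => lineKey (rep i)) =
    (keyTable.drop 126).take 63 := by decide +kernel

theorem keys_chunk3 : (List.range' 189 63).map (fun i => lineKey (rep i)) =
    (keyTable.drop 189).take 63 := by decide +kernel

end CfsgLib.Icosian
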