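import Mathlib
import Cfsg.Agent.Lib.Icosian.KeysA
import Cfsg.Agent.Lib.Icosian.KeysB

/-!
The invariants are distinct.
-/

set_option autoImplicit false
set_option maxRecDepth 100000
set_option Elab.async false

noncomputable section

namespace CfsgLib.Icosian

theorem keys_chunk4 : (List.range' 252 63).map (fun i => lineKey (rep i)) =
    (keyTable.drop 252).take 63 := by decide +kernel

theorem keys_split :
    keyTable = keyTable.take 63 ++ ((keyTable.drop 63).take 63 ++ ((keyTable.drop 126).take 63 ++
      ((keyTable.drop 189).take 63 ++ (keyTable.drop 252).take 63))) := by decide +kernel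

theorem keys_eq : keys = keyTable := by
  rw [keys, range_315, List.map_append, List.map_append, List.map_append, List.map_append,
    keys_chunk0, keys_chunk1, keys_chunk2, keys_chunk3, keys_chunk4, List.drop_zero]
  exact keys_split.symm

theorem keyTable_nodupB : nodupB keyTable 0 = true := by decide +kernel

theorem keys_nodup : keys.Nodup := keys_eq ▸ (nodup_of_nodupB keyTable_nodupB).1

end CfsgLib.Icosian
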