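import Mathlib
import Cfsg.Agent.Lib.Icosian.Reps

/-!
The action of generator 0.
-/

set_option autoImplicit false
set_option maxRecDepth 100000
set_option Elab.async false

noncomputable section

namespace CfsgLib.Icosian

open Quaternion
open Cfsg.Spor (icoLeech qip qrefl)

theorem step_0_part0 : (List.range' 0 63).all (stepOK 0) = true := by decide +kernel

theorem step_0_part1 : (List.range' 63 63).all (stepOK 0) = true := by decide +kernel

theorem step_0_part2 : (List.range' 126 63).all (stepOK 0) = true := by decide +kernel

theorem step_0_part3 : (List.range' 189 63).all (stepOK 0) = true := by decide +kernel

theorem step_0_part4 : (List.range' 252 63).all (stepOK 0) = true := by decide +kernel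

theorem step_0 : (List.range 315).all (stepOK 0) = true := by
  rw [range_315, List.all_append, List.all_append, List.all_append, List.all_append, step_0_part0,
    step_0_part1, step_0_part2, step_0_part3, step_0_part4]
  rfl

end CfsgLib.Icosian
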