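import Mathlib
import Cfsg.Agent.Lib.Icosian.Keys
import Cfsg.Agent.Lib.Icosian.StepA
import Cfsg.Agent.Lib.Icosian.StepB
import Cfsg.Agent.Lib.Icosian.StepC
import Cfsg.Agent.Lib.Icosian.StepD

/-!
The checked action of the four generating reflections on 315 lines.
-/

set_option autoImplicit false
set_option maxRecDepth 100000

noncomputable section

namespace CfsgLib.Icosian

open Quaternion
open Cfsg.Spor (icoLeech qip qrefl)

theorem lineKey_of_eq {r r' : Vec} {h : r.inL = true} {h' : r'.inL = true}
    {q : qip (mkPt r h : QV) (mkPt r h) = 4} {q' : qip (mkPt r' h' : QV) (mkPt r' h') = 4}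
    (e : reflP (mkPt r h) q = reflP (mkPt r' h') q') : lineKey r = lineKey r' := by
  have key : ∀ s, Vec.refl r (axisVec s) = Vec.refl r' (axisVec s) := by
    intro s
    refine Vec.toV_injective ?_
    rw [← qrefl_toV h (axisVec_inL s), ← qrefl_toV h' (axisVec_inL s)]
    exact congrArg (fun f : Equiv.Perm Pt => ((f (mkPt _ (axisVec_inL s)) : Pt) : QV)) e
  simp only [lineKey, key]

theorem F_injective : Function.Injective F := by
  intro i j hij
  refine Fin.ext (List.inj_on_of_nodup_map keys_nodup (List.mem_range.2 i.2) (List.mem_range.2 j.2) ?_)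
  exact lineKey_of_eq hij

theorem step (k : Fin 4) : (List.range 315).all (stepOK k) = true := by
  fin_cases k
  exacts [step_0, step_1, step_2, step_3]

theorem conj_F (k : Fin 4) (i : Fin 315) : F (gIdx k) * F i * (F (gIdx k))⁻¹ = F (piFun k i) := by
  have h := List.all_eq_true.1 (step k) i (List.mem_range.2 i.2)
  simp only [stepOK, Bool.and_eq_true, decide_eq_true_eq] at h
  obtain ⟨hu, he⟩ := h
  rw [Nat.blt_eq] at hu
  set u := (unitL k).getD i 0
  set r' : Pt := F (gIdx k) (repPt i) with hr'
  have hr'' : (r' : QV) = fun t => (unit u).toH * (repPt (piFun k i) : QV) t := by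
    rw [hr', F, reflP_apply]
    show qrefl (rep (gIdx k)).toV (rep i).toV = _
    rw [qrefl_toV (rep_inL _) (rep_inL _), he, Vec.toV_lmul]
    rfl
  have h4 : qip (r' : QV) r' = 4 := by
    rw [hr', F, reflP_apply, qrefl_isometry (qip_repPt _)]
    exact qip_repPt i
  rw [F, F, reflP_conj (qip_repPt i) (qip_repPt _) h4 hr'.symm]
  exact (reflP_unit (qip_repPt _) h4 (unit_mul_star hu).2 fun t => congrFun hr'' t).symm

/-- The four generators. -/
def gen (k : Fin 4) : Equiv.Perm Pt := F (gIdx k)

/-- A parent precedes and is carried to the child. -/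
def parOK (i : ℕ) : Bool :=
  Nat.beq i 0 ||
    let p := parTab.getD i (0, 0)
    Nat.blt p.1 i && Nat.blt p.2 4 &&
      Nat.beq (([piTab0, piTab1, piTab2, piTab3].getD p.2 []).getD p.1 0) i

theorem parent : (List.range 315).all parOK = true := by decide +kernel

theorem exists_conj (i : Fin 315) :
    ∃ g ∈ Subgroup.closure (Set.range gen), g * F 0 * g⁻¹ = F i := by
  obtain ⟨i, hi⟩ := i
  induction i using Nat.strong_induction_on with
  | _ i ih =>
    by_cases h0 : i = 0
    · subst h0; exact ⟨1, one_mem _, by simp⟩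
    have h := List.all_eq_true.1 parent i (List.mem_range.2 hi)
    simp only [parOK, Bool.or_eq_true, Bool.and_eq_true, Nat.beq_eq, Nat.blt_eq, h0, false_or] at h
    obtain ⟨⟨hp, hk⟩, he⟩ := h
    obtain ⟨g, hg, hge⟩ := ih _ hp (by omega)
    set k : Fin 4 := ⟨(parTab.getD i (0, 0)).2, hk⟩
    refine ⟨gen k * g, mul_mem (Subgroup.subset_closure ⟨k, rfl⟩) hg, ?_⟩
    have e : piFun k ⟨(parTab.getD i (0, 0)).1, by omega⟩ = ⟨i, hi⟩ := by
      refine Fin.ext ?_
      have : piL k = [piTab0, piTab1, piTab2, piTab3].getD (k : ℕ) [] := by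
        generalize k = k'; fin_cases k' <;> rfl
      simp only [piFun, this]
      exact (congrArg (· % 315) he).trans (Nat.mod_eq_of_lt hi)
    rw [← e, ← conj_F, ← hge, gen]
    group

end CfsgLib.Icosian
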