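import Mathlib
import Cfsg.Agent.Lib.Icosian.Refl
import Cfsg.Agent.Lib.Icosian.Leaves

/-!
At most 37800 minimal vectors.
-/

set_option autoImplicit false
set_option Elab.async false
set_option maxRecDepth 100000

noncomputable section

namespace CfsgLib.Icosian

open Quaternion
open Cfsg.Spor (icoLeech qip)

/-- Entry of the norm table. -/
def normAt (i : ℕ) : ℤ × ℤ := normTab.getD i (0, 0)

/-- The triples of norms with sum four. -/
def combos : List (ℕ × ℕ × ℕ) :=
  ((List.range 9).flatMap fun i => (List.range 9).flatMap fun j =>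
      (List.range 9).map fun k => (i, j, k)).filter fun t =>
    (normAt t.1).1 + (normAt t.2.1).1 + (normAt t.2.2).1 == 4 &&
      (normAt t.1).2 + (normAt t.2.1).2 + (normAt t.2.2).2 == 0

/-- The third residue. -/
def zRes (x a : ℕ) : ℕ := (x ^^^ a) ^^^ dTab.getD x 0

/-- Candidates for minimal vectors. -/
def cands : List Vec :=
  (List.range 256).flatMap fun x => ihTab.flatMap fun a => combos.flatMap fun t =>
    (buck x t.1).flatMap fun p => (buck (x ^^^ a) t.2.1).flatMap fun q =>
      (buck (zRes x a) t.2.2).map fun r => ⟨Ico.dec p, Ico.dec q, Ico.dec r⟩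

/-- The number of candidates with a given first residue. -/
def candAt (x : ℕ) : ℕ :=
  (ihTab.map fun a => (combos.map fun t =>
    (buck x t.1).length * ((buck (x ^^^ a) t.2.1).length * (buck (zRes x a) t.2.2).length)).sum).sum

/-- The sum over a block of residues. -/
def partSum (g : ℕ → ℕ) (lo : ℕ) : ℕ := ((List.range' lo 32).map g).sum

theorem range_256 : List.range 256 = List.range' 0 32 ++ (List.range' 32 32 ++ (List.range' 64 32 ++
    (List.range' 96 32 ++ (List.range' 128 32 ++ (List.range' 160 32 ++ (List.range' 192 32 ++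
    List.range' 224 32)))))) := by decide +kernel

theorem sum_range_256 (g : ℕ → ℕ) : ((List.range 256).map g).sum = partSum g 0 + (partSum g 32 +
    (partSum g 64 + (partSum g 96 + (partSum g 128 + (partSum g 160 + (partSum g 192 + partSum g 224)))))) := by
  rw [range_256]
  simp only [partSum, List.map_append, List.sum_append]

theorem sum_length_eq (L : List ℕ) (f : ℕ → List Vec) (g : ℕ → ℕ) (h : ∀ x, (f x).length = g x) :
    (L.flatMap f).length = (L.map g).sum := by
  rw [List.length_flatMap]
  congr 1
  exact List.map_congr_left fun x _ => h x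

/-- The candidates with a given first residue. -/
def candList (x : ℕ) : List Vec :=
  ihTab.flatMap fun a => combos.flatMap fun t =>
    (buck x t.1).flatMap fun p => (buck (x ^^^ a) t.2.1).flatMap fun q =>
      (buck (zRes x a) t.2.2).map fun r => ⟨Ico.dec p, Ico.dec q, Ico.dec r⟩

theorem length_candList (x : ℕ) : (candList x).length = candAt x := by
  simp only [candList, candAt, List.length_flatMap, List.length_map, List.map_const', List.sum_replicate,
    smul_eq_mul]

theorem length_cands : cands.length = partSum candAt 0 + (partSum candAt 32 + (partSum candAt 64 +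
    (partSum candAt 96 + (partSum candAt 128 + (partSum candAt 160 + (partSum candAt 192 +
    partSum candAt 224)))))) :=
  ((congrArg List.length (show cands = (List.range 256).flatMap candList from rfl)).trans
    (sum_length_eq (List.range 256) candList candAt length_candList)).trans (sum_range_256 candAt)

theorem candPart_0 : partSum candAt 0 = 5800 := by decide +kernel

theorem candPart_32 : partSum candAt 32 = 4608 := by decide +kernel

theorem candPart_64 : partSum candAt 64 = 3840 := by decide +kernel

theorem candPart_96 : partSum candAt 96 = 4608 := by decide +kernel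

theorem candPart_128 : partSum candAt 128 = 4608 := by decide +kernel

theorem candPart_160 : partSum candAt 160 = 3840 := by decide +kernel

theorem candPart_192 : partSum candAt 192 = 4608 := by decide +kernel

theorem candPart_224 : partSum candAt 224 = 5888 := by decide +kernel

theorem candPart_eq : partSum candAt 0 + (partSum candAt 32 + (partSum candAt 64 +
    (partSum candAt 96 + (partSum candAt 128 + (partSum candAt 160 + (partSum candAt 192 +
    partSum candAt 224)))))) = 37800 := by
  rw [candPart_0, candPart_32, candPart_64, candPart_96, candPart_128, candPart_160, candPart_192,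
    candPart_224]

theorem normTab_idx : ∀ p ∈ [((0 : ℤ), (0 : ℤ)), (1, 0), (1, 1), (2, -1), (2, 0), (2, 1), (3, -1), (3, 0),
      (4, 0)], ∃ i : Fin 9, normTab.getD i (0, 0) = p := by
  decide +kernel

theorem mem_cands {v : Vec} (h : v.inL = true) (hl : v.len = ⟨4, 0⟩) : v ∈ cands := by
  have hs : v.x.nrm + v.y.nrm + v.z.nrm = ⟨4, 0⟩ := hl
  have nx := v.x.nrm_nonneg
  have ny := v.y.nrm_nonneg
  have nz := v.z.nrm_nonneg
  have e : ∀ a b c : ZT, a + b + c = a + (b + c) ∧ a + b + c = b + (a + c) ∧ a + b + c = c + (a + b) := by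
    intro a b c
    refine ⟨?_, ?_, ?_⟩ <;> ext <;> simp [ZT.add_def] <;> ring
  obtain ⟨e1, e2, e3⟩ := e v.x.nrm v.y.nrm v.z.nrm
  obtain ⟨i, hi⟩ := normTab_idx _ (norm_cases nx (ny.add nz) (e1 ▸ hs))
  obtain ⟨j, hj⟩ := normTab_idx _ (norm_cases ny (nx.add nz) (e2 ▸ hs))
  obtain ⟨k, hk⟩ := normTab_idx _ (norm_cases nz (nx.add ny) (e3 ▸ hs))
  have hsa : v.x.nrm.a + v.y.nrm.a + v.z.nrm.a = 4 := congrArg ZT.a hs
  have hsb : v.x.nrm.b + v.y.nrm.b + v.z.nrm.b = 0 := congrArg ZT.b hs
  have b : ∀ w : Ico, 0 ≤ w.nrm.a := fun w => by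
    have := w.ball_nonneg; rw [w.ball_eq] at this; omega
  have := b v.x; have := b v.y; have := b v.z
  obtain ⟨p, hp, rp⟩ := leaf_found i.2 hi.symm (by rw [Ico.ball_eq]; omega)
  obtain ⟨q, hq, rq⟩ := leaf_found j.2 hj.symm (by rw [Ico.ball_eq]; omega)
  obtain ⟨r, hr, rr⟩ := leaf_found k.2 hk.symm (by rw [Ico.ball_eq]; omega)
  obtain ⟨a, ha, ey, ez⟩ := res_cases h
  simp only [cands, List.mem_flatMap, List.mem_map]
  refine ⟨res v.x, List.mem_range.2 (res_lt _), a, ha, (i, j, k), ?_, p, hp, q, ey ▸ hq, r, ?_, ?_⟩
  · simp only [combos, List.mem_filter, List.mem_flatMap, List.mem_map, List.mem_range]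
    refine ⟨⟨i, i.2, j, j.2, k, k.2, rfl⟩, ?_⟩
    simp [normAt, -List.getD_eq_getElem?_getD, hi, hj, hk, hsa, hsb]
  · rw [ey] at ez
    rw [zRes, ← ez]
    exact hr
  · rw [rp, rq, rr]

/-- The minimal vectors. -/
def minVecs : Set (Fin 3 → ℍ[ℝ]) := {r | r ∈ icoLeech ∧ qip r r = 4}

theorem minVecs_subset : minVecs ⊆ Vec.toV '' (cands.toFinset : Set Vec) := by
  rintro r ⟨hr, h4⟩
  obtain ⟨v, hv, rfl⟩ := exists_vec hr
  exact ⟨v, List.mem_toFinset.2 (mem_cands hv ((Vec.qip_self_four v).1 h4)), rfl⟩

theorem minVecs_finite : minVecs.Finite :=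
  ((Finset.finite_toSet _).image _).subset minVecs_subset

theorem ncard_minVecs_le : minVecs.ncard ≤ 37800 := by
  refine le_trans (Set.ncard_le_ncard minVecs_subset ((Finset.finite_toSet _).image _)) ?_
  refine le_trans (Set.ncard_image_le (Finset.finite_toSet _)) ?_
  rw [Set.ncard_coe_finset]
  refine le_trans (List.toFinset_card_le _) ?_
  rw [length_cands, candPart_eq]

end CfsgLib.Icosian
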