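import Mathlib
import Cfsg.Agent.Lib.Icosian.Gens
import Cfsg.Agent.Lib.Icosian.MinBound

/-!
The minimal vectors are the 37800 unit multiples of the 315 representatives.
-/

set_option autoImplicit false
set_option maxRecDepth 100000

noncomputable section

namespace CfsgLib.Icosian

open Quaternion
open Cfsg.Spor (icoLeech qip qrefl IsIcoReflection twoJ2)

/-- Unit multiples of representatives. -/
def mult (p : Fin 120 × Fin 315) : QV := fun t => (unit p.1).toH * (repPt p.2 : QV) t

theorem mult_mem_minVecs (p : Fin 120 × Fin 315) : mult p ∈ minVecs := by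
  refine ⟨icoLeech_mul (repPt p.2).2 (toH_mem _), ?_⟩
  have h := qip_repPt p.2
  simp only [qip, mult, star_mul, mul_assoc] at h ⊢
  simp only [← mul_assoc (((repPt p.2 : Pt) : QV) _)]
  rw [← Finset.mul_sum, ← Finset.sum_mul, h, ← mul_assoc,
    ← (Commute.ofNat_left 4 (unit p.1).toH).eq, mul_assoc, (unit_mul_star p.1.2).1, mul_one]

theorem mult_injective : Function.Injective mult := by
  rintro ⟨u, i⟩ ⟨v, j⟩ h
  obtain rfl : i = j := by
    apply F_injective
    have h4 := (mult_mem_minVecs (u, i)).2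
    have h4' : qip (⟨mult (u, i), (mult_mem_minVecs (u, i)).1⟩ : Pt).1
        (⟨mult (u, i), (mult_mem_minVecs (u, i)).1⟩ : Pt).1 = 4 := h4
    calc F i = reflP ⟨mult (u, i), (mult_mem_minVecs (u, i)).1⟩ h4' :=
          reflP_unit _ _ (unit_mul_star u.2).2 fun _ => rfl
      _ = F j := (reflP_unit _ _ (unit_mul_star v.2).2 fun t => congrFun h t).symm
  obtain ⟨t, ht⟩ : ∃ t, (repPt i : QV) t ≠ 0 := by
    by_contra hne
    push Not at hne
    have := qip_repPt i
    simp [qip, hne] at this
    exact absurd this.symm (by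
      intro e
      exact (by norm_num : (4 : ℝ) ≠ 0) (Quaternion.coe_injective
        (show ((4 : ℝ) : ℍ[ℝ]) = ((0 : ℝ) : ℍ[ℝ]) from e)))
  have huv : unit u = unit v := Ico.toH_injective (mul_right_cancel₀ ht (congrFun h t))
  have hlen : unitCodes.length = 120 := by decide +kernel
  refine Prod.ext ?_ rfl
  ext
  have key := List.inj_on_of_nodup_map units_nodup.2
  have hu : (u : ℕ) < unitCodes.length := by rw [hlen]; exact u.2
  have hv : (v : ℕ) < unitCodes.length := by rw [hlen]; exact v.2
  simp only [unit, List.getD_eq_getElem _ _ hu, List.getD_eq_getElem _ _ hv] at huv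
  exact (List.Nodup.getElem_inj_iff units_nodup.1).1
    (key (List.getElem_mem hu) (List.getElem_mem hv) huv)

theorem range_mult : Set.range mult = minVecs := by
  refine Set.eq_of_subset_of_ncard_le (Set.range_subset_iff.2 mult_mem_minVecs) ?_ minVecs_finite
  rw [Set.ncard_range_of_injective mult_injective]
  simpa using ncard_minVecs_le

theorem ncard_minVecs : minVecs.ncard = 37800 := by
  rw [← range_mult, Set.ncard_range_of_injective mult_injective]
  simp

theorem exists_F {f : Equiv.Perm Pt} (hf : IsIcoReflection f) : ∃ i, f = F i := by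
  obtain ⟨r, h, rfl⟩ := exists_reflP hf
  obtain ⟨⟨u, i⟩, e⟩ : (r : QV) ∈ Set.range mult := range_mult ▸ ⟨r.2, h⟩
  exact ⟨i, (reflP_unit _ _ (unit_mul_star u.2).2 fun t => (congrFun e t).symm).symm⟩

theorem isIcoReflection_iff {f : Equiv.Perm Pt} : IsIcoReflection f ↔ ∃ i, f = F i :=
  ⟨exists_F, fun ⟨_, e⟩ => e ▸ isIcoReflection_reflP _ _⟩

theorem ncard_reflections : {f : Equiv.Perm Pt | IsIcoReflection f}.ncard = 315 := by
  rw [show {f : Equiv.Perm Pt | IsIcoReflection f} = Set.range F from
    Set.ext fun f => isIcoReflection_iff.trans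
      ⟨fun ⟨i, e⟩ => ⟨i, e.symm⟩, fun ⟨i, e⟩ => ⟨i, e.symm⟩⟩,
    Set.ncard_range_of_injective F_injective]
  simp

theorem twoJ2_eq : twoJ2 = Subgroup.closure (Set.range gen) := by
  refine le_antisymm ((Subgroup.closure_le _).2 fun f hf => ?_) ((Subgroup.closure_le _).2 ?_)
  · obtain ⟨i, rfl⟩ := exists_F hf
    obtain ⟨g, hg, e⟩ := exists_conj i
    rw [← e]
    have h0 : F 0 = gen 0 := congrArg F (by decide +kernel)
    exact mul_mem (mul_mem hg (h0 ▸ Subgroup.subset_closure ⟨0, rfl⟩)) (inv_mem hg)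
  · rintro _ ⟨k, rfl⟩
    exact Subgroup.subset_closure (isIcoReflection_reflP _ (qip_repPt _))

end CfsgLib.Icosian
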