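import Mathlib

/-!
A generated group permuting a finite family acts on its indices.
-/

set_option autoImplicit false

noncomputable section

namespace CfsgLib.Icosian

variable {G X : Type*} [Group G] {n : ℕ}

/-- Conjugation as a permutation. -/
def conjPerm (G : Type*) [Group G] : G →* Equiv.Perm G where
  toFun g := (MulAut.conj g).toEquiv
  map_one' := by ext; simp
  map_mul' a b := by ext; simp [mul_assoc]

@[simp] theorem conjPerm_apply (g x : G) : conjPerm G g x = g * x * g⁻¹ := rfl

theorem index_image {A : G →* Equiv.Perm X} {f : Fin n → X} (hf : Function.Injective f) {S : Set G}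
    (h : ∀ s ∈ S, ∀ i, ∃ j, A s (f i) = f j) :
    ∀ g ∈ Subgroup.closure S, ∀ i, ∃ j, A g (f i) = f j := by
  intro g hg
  induction hg using Subgroup.closure_induction with
  | mem x hx => exact h x hx
  | one => exact fun i => ⟨i, by simp⟩
  | mul x y _ _ ihx ihy =>
    intro i
    obtain ⟨j, hj⟩ := ihy i
    obtain ⟨k, hk⟩ := ihx j
    exact ⟨k, by rw [map_mul, Equiv.Perm.mul_apply, hj, hk]⟩
  | inv x _ ih =>
    intro i
    choose p hp using ih
    have hinj : Function.Injective p := fun a b e => hf ((A x).injective (by rw [hp, hp, e]))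
    obtain ⟨j, rfl⟩ := (Finite.injective_iff_surjective.1 hinj) i
    exact ⟨j, by rw [← hp, ← Equiv.Perm.mul_apply, ← map_mul, inv_mul_cancel, map_one]; rfl⟩

theorem exists_indexHom {A : G →* Equiv.Perm X} {f : Fin n → X} (hf : Function.Injective f)
    {S : Set G} {H : Subgroup G} (hH : H ≤ Subgroup.closure S)
    (h : ∀ s ∈ S, ∀ i, ∃ j, A s (f i) = f j) :
    ∃ φ : H →* Equiv.Perm (Fin n), ∀ g i, f (φ g i) = A (g : G) (f i) := by
  have key : ∀ g : H, ∀ i, ∃ j, A (g : G) (f i) = f j := fun g => index_image hf h g (hH g.2)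
  choose p hp using key
  have hinj : ∀ g, Function.Injective (p g) := fun g a b e =>
    hf ((A (g : G)).injective (by rw [hp, hp, e]))
  refine ⟨MonoidHom.mk' (fun g => Equiv.ofBijective (p g) (Finite.injective_iff_bijective.1 (hinj g)))
    (fun a b => Equiv.ext fun i => hf ?_), fun g i => (hp g i).symm⟩
  simp only [Equiv.Perm.mul_apply, Equiv.ofBijective_apply]
  rw [← hp, ← hp, ← hp, Subgroup.coe_mul, map_mul, Equiv.Perm.mul_apply]

end CfsgLib.Icosian
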