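import Mathlib
import Cfsg.Agent.Lib.Icosian.Classify
import Cfsg.Agent.Lib.Icosian.Restrict

/-!
The action on the 315 reflections and the centre of the reflection group.
-/

set_option autoImplicit false
set_option maxRecDepth 100000

noncomputable section

namespace CfsgLib.Icosian

open Quaternion
open Cfsg.Spor (sig tau icosians icoLeech qip qrefl twoJ2)

theorem exists_rho :
    ∃ φ : twoJ2 →* Equiv.Perm (Fin 315), ∀ g i, F (φ g i) = (g : Equiv.Perm Pt) * F i * (g : Equiv.Perm Pt)⁻¹ :=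
  exists_indexHom (A := conjPerm (Equiv.Perm Pt)) F_injective twoJ2_eq.le
    (by rintro _ ⟨k, rfl⟩ i; exact ⟨piFun k i, conj_F k i⟩)

/-- The action of the reflection group on the indices of its reflections. -/
def rho : twoJ2 →* Equiv.Perm (Fin 315) := exists_rho.choose

theorem rho_spec (g : twoJ2) (i : Fin 315) :
    F (rho g i) = (g : Equiv.Perm Pt) * F i * (g : Equiv.Perm Pt)⁻¹ :=
  exists_rho.choose_spec g i

/-- The zero point. -/
def zeroPt : Pt := mkPt ⟨0, 0, 0⟩ (by decide +kernel)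

theorem zeroPt_apply (t : Fin 3) : (zeroPt : QV) t = 0 := by
  fin_cases t <;> simp [zeroPt, mkPt, Vec.toV]

theorem neg_mem_icoLeech {x : QV} (hx : x ∈ icoLeech) : -x ∈ icoLeech := by
  have := icoLeech_sub zeroPt.2 hx
  rwa [show (zeroPt : QV) = 0 from funext zeroPt_apply, zero_sub] at this

/-- Minus the identity. -/
def negP : Equiv.Perm Pt where
  toFun x := ⟨-(x : QV), neg_mem_icoLeech x.2⟩
  invFun x := ⟨-(x : QV), neg_mem_icoLeech x.2⟩
  left_inv x := Subtype.ext (neg_neg _)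
  right_inv x := Subtype.ext (neg_neg _)

theorem negP_ne_one : negP ≠ 1 := by
  intro h
  have := congrArg (fun f : Equiv.Perm Pt => ((f (repPt 0) : Pt) : QV)) h
  change (-(repPt 0 : QV)) = _ at this
  have h0 : ((repPt 0 : Pt) : QV) = 0 := by
    funext t
    have ht := congrFun this t
    simp only [Pi.neg_apply, Equiv.Perm.one_apply] at ht
    have h2 : ((repPt 0 : Pt) : QV) t + (repPt 0 : QV) t = 0 := by
      nth_rewrite 2 [← ht]; rw [add_neg_cancel]
    rw [← two_smul ℝ] at h2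
    exact (smul_eq_zero.1 h2).resolve_left (by norm_num)
  have := qip_repPt 0
  rw [h0] at this
  simp [qip] at this
  exact (by norm_num : (4 : ℝ) ≠ 0) (Quaternion.coe_injective
    (show ((4 : ℝ) : ℍ[ℝ]) = ((0 : ℝ) : ℍ[ℝ]) from this.symm))

/-- The indices of the reflections in the coordinate axes. -/
def axIdx : Fin 3 → Fin 315 := ![0, 80, 164]

theorem axis_table : rep (axIdx 0) = ⟨⟨⟨-2, 0⟩, 0, 0, 0⟩, 0, 0⟩ ∧
    rep (axIdx 1) = ⟨0, ⟨⟨-2, 0⟩, 0, 0, 0⟩, 0⟩ ∧ rep (axIdx 2) = ⟨0, 0, ⟨⟨-2, 0⟩, 0, 0, 0⟩⟩ := by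
  decide +kernel

theorem axis_apply (t u : Fin 3) : (repPt (axIdx t) : QV) u = if u = t then -2 else 0 := by
  obtain ⟨h0, h1, h2⟩ := axis_table
  have h : Ico.toH ⟨⟨-2, 0⟩, 0, 0, 0⟩ = -2 := by
    rw [toH_scalar, ZT.re_int]
    push_cast
    rfl
  fin_cases t <;> fin_cases u <;> simp [repPt, mkPt, Vec.toV, h0, h1, h2, h]

theorem F_axis (t : Fin 3) (x : Pt) (u : Fin 3) :
    (F (axIdx t) x : QV) u = if u = t then -(x : QV) u else (x : QV) u := by
  have hs : qip (x : QV) (repPt (axIdx t)) = (x : QV) t * -2 := by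
    simp only [qip, axis_apply]
    rw [Finset.sum_eq_single t] <;> simp +contextual
  rw [F, reflP_apply, qrefl, hs, axis_apply]
  split_ifs with h
  · subst h
    rw [smul_mul_assoc, mul_assoc, neg_mul_neg, ← mul_assoc]
    rw [← smul_mul_assoc, half_smul_two, mul_two]
    abel
  · simp

theorem negP_eq : negP = F (axIdx 0) * F (axIdx 1) * F (axIdx 2) := by
  refine Equiv.ext fun x => Subtype.ext (funext fun u => ?_)
  simp only [Equiv.Perm.mul_apply, F_axis]
  show -(x : QV) u = _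
  fin_cases u <;> simp

theorem negP_mem : negP ∈ twoJ2 := by
  rw [negP_eq]
  exact mul_mem (mul_mem (Subgroup.subset_closure (isIcoReflection_reflP _ (qip_repPt _)))
    (Subgroup.subset_closure (isIcoReflection_reflP _ (qip_repPt _))))
    (Subgroup.subset_closure (isIcoReflection_reflP _ (qip_repPt _)))

theorem commute_of_two {a b c d : ℍ[ℝ]} (ha : a ≠ 0) (h1 : d * a = a * c) (h2 : d * b = b * c) :
    c * (star a * b) = (star a * b) * c := by
  have hd : d = a * c * a⁻¹ := by rw [← h1, mul_inv_cancel_right₀ ha]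
  have hq : c * (a⁻¹ * b) = a⁻¹ * b * c := by
    rw [mul_assoc a⁻¹ b c, ← h2, hd, mul_assoc a c, mul_assoc a, inv_mul_cancel_left₀ ha, mul_assoc]
  have hs : star a * b = Quaternion.normSq a • (a⁻¹ * b) := by
    rw [Quaternion.inv_def, smul_mul_assoc, smul_smul, mul_inv_cancel₀
      (Quaternion.normSq_ne_zero.2 ha), one_smul]
  rw [hs, mul_smul_comm, smul_mul_assoc, hq]

/-- Four representatives pinning the scalars. -/
theorem pick_table : rep 305 = ⟨⟨⟨-1, 0⟩, ⟨-1, 0⟩, 0, 0⟩, ⟨⟨-1, 0⟩, ⟨-1, 0⟩, 0, 0⟩, 0⟩ ∧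
    rep 28 = ⟨⟨⟨-1, 0⟩, ⟨-1, 0⟩, 0, 0⟩, ⟨⟨-1, 0⟩, ⟨1, 0⟩, 0, 0⟩, 0⟩ ∧
    rep 213 = ⟨⟨⟨-1, 0⟩, ⟨-1, 0⟩, 0, 0⟩, 0, ⟨⟨-1, 0⟩, ⟨-1, 0⟩, 0, 0⟩⟩ ∧
    rep 217 = ⟨⟨⟨0, -1⟩, 0, ⟨1, 0⟩, 0⟩, ⟨0, 0, 0, ⟨-1, 0⟩⟩, ⟨0, 0, 0, ⟨-1, 0⟩⟩⟩ := by
  decide +kernel

theorem eq_of_fix_all {z : Equiv.Perm Pt} (hz : z ∈ twoJ2)
    (hfix : ∀ i, z * F i * z⁻¹ = F i) : z = 1 ∨ z = negP := by
  obtain ⟨hlin, hiso⟩ := twoJ2_le_isoGrp hz
  have h0 : ∀ t, (z zeroPt : QV) t = 0 := by
    intro t
    have h := hlin 1 (one_mem _) zeroPt zeroPt zeroPt (fun u => by simp [zeroPt_apply]) t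
    rw [one_mul] at h
    exact left_eq_add.1 h
  have hsm : ∀ (p : ℍ[ℝ]), p ∈ icosians → ∀ x y : Pt, (∀ t, (y : QV) t = p * (x : QV) t) →
      ∀ t, (z y : QV) t = p * (z x : QV) t := by
    intro p hp x y h t
    rw [hlin p hp x zeroPt y (fun u => by rw [h, zeroPt_apply, add_zero]) t, h0, add_zero]
  have hrep : ∀ i, ∃ d : ℍ[ℝ], ∀ t, (z (repPt i) : QV) t = d * (repPt i : QV) t := by
    intro i
    have hc : F i (z (repPt i)) = z (F i (repPt i)) := by
      conv_lhs => rw [← hfix i]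
      simp
    have hneg : ∀ t, (F i (repPt i) : QV) t = -1 * (repPt i : QV) t := by
      intro t
      rw [F, reflP_apply, qrefl, qip_repPt, show (4 : ℍ[ℝ]) = 2 * 2 by norm_num, half_smul_two,
        two_mul, neg_one_mul]
      abel
    refine ⟨(1 / 4 : ℝ) • qip (z (repPt i) : QV) (repPt i), fun t => ?_⟩
    have h := hsm (-1) (neg_mem (one_mem _)) (repPt i) _ hneg t
    rw [← hc, F, reflP_apply, qrefl, neg_one_mul, smul_mul_assoc] at h
    rw [smul_mul_assoc]
    linear_combination (norm := module) (1 / 2 : ℝ) • h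
  choose d hd using hrep
  set c : Fin 3 → ℍ[ℝ] := fun t => d (axIdx t)
  have hz' : ∀ (x : Pt) (t : Fin 3), (z x : QV) t = (x : QV) t * c t := by
    intro x
    have hxI := x.2.1
    let w2 : Pt := ⟨fun u => (x : QV) 2 * (repPt (axIdx 2) : QV) u + (zeroPt : QV) u,
      icoLeech_add (icoLeech_mul (repPt _).2 (hxI 2)) zeroPt.2⟩
    let w1 : Pt := ⟨fun u => (x : QV) 1 * (repPt (axIdx 1) : QV) u + (w2 : QV) u,
      icoLeech_add (icoLeech_mul (repPt _).2 (hxI 1)) w2.2⟩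
    let w0 : Pt := ⟨fun u => (x : QV) 0 * (repPt (axIdx 0) : QV) u + (w1 : QV) u,
      icoLeech_add (icoLeech_mul (repPt _).2 (hxI 0)) w1.2⟩
    have hw : ∀ u, (w0 : QV) u = -2 * (x : QV) u := by
      intro u
      have hc2 : (x : QV) u * -2 = -2 * (x : QV) u := by
        rw [mul_neg, neg_mul, (Commute.ofNat_left 2 ((x : QV) u)).eq]
      show _ + (_ + (_ + _)) = _
      rw [zeroPt_apply, axis_apply, axis_apply, axis_apply, ← hc2]
      fin_cases u <;> simp
    intro t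
    have e := hsm (-2) (neg_mem (by exact_mod_cast natCast_mem icosians 2)) x w0 hw t
    rw [hlin _ (hxI 0) _ _ w0 (fun u => rfl) t, hlin _ (hxI 1) _ _ w1 (fun u => rfl) t,
      hlin _ (hxI 2) _ _ w2 (fun u => rfl) t, h0, hd, hd, hd, axis_apply, axis_apply, axis_apply] at e
    have hsw : (x : QV) t * (c t * -2) = -2 * ((x : QV) t * c t) := by
      rw [← mul_assoc, mul_neg, neg_mul, (Commute.ofNat_left 2 _).eq]
    refine mul_left_cancel₀ (show (-2 : ℍ[ℝ]) ≠ 0 from ?_) (e.symm.trans (Eq.trans ?_ hsw))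
    · intro h
      have h' := congrArg QuaternionAlgebra.re h
      rw [show (-2 : ℍ[ℝ]) = ((-2 : ℝ) : ℍ[ℝ]) by push_cast; rfl] at h'
      simp at h'
    · fin_cases t <;> simp [c]
  obtain ⟨p305, p28, p213, p217⟩ := pick_table
  have e305 := fun t => (hd 305 t).symm.trans (hz' _ t)
  have e28 := fun t => (hd 28 t).symm.trans (hz' _ t)
  have e213 := fun t => (hd 213 t).symm.trans (hz' _ t)
  have e217 := fun t => (hd 217 t).symm.trans (hz' _ t)
  set a : ℍ[ℝ] := Ico.toH ⟨⟨-1, 0⟩, ⟨-1, 0⟩, 0, 0⟩ with hadef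
  have ha : a ≠ 0 := fun h => by
    have := Ico.toH_injective (h.trans Ico.toH_zero.symm); revert this; decide
  have r305 : rep ((305 : Fin 315) : ℕ) = _ := p305
  have r28 : rep ((28 : Fin 315) : ℕ) = _ := p28
  have r213 : rep ((213 : Fin 315) : ℕ) = _ := p213
  have r217 : rep ((217 : Fin 315) : ℕ) = _ := p217
  have f0 := e305 0; have f1 := e305 1
  have g0 := e28 0; have g1 := e28 1
  have k0 := e213 0; have k2 := e213 2
  have l0 := e217 0; have l1 := e217 1; have l1' : _ := e217 1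
  simp only [repPt, mkPt, r305, r28, r213, r217, Vec.toV, Matrix.cons_val_zero, Matrix.cons_val_one,
    Matrix.cons_val_two, Matrix.tail_cons, Matrix.head_cons] at f0 f1 g0 g1 k0 k2 l0 l1
  have hc1 : c 1 = c 0 := mul_left_cancel₀ ha (f1.symm.trans f0)
  have hc2 : c 2 = c 0 := mul_left_cancel₀ ha (k2.symm.trans k0)
  rw [hc1] at g1 l1
  have ci := commute_of_two ha g0 g1
  have cq := commute_of_two (fun h => by
    have := Ico.toH_injective (h.trans Ico.toH_zero.symm); revert this; decide) l0 l1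
  rw [← Ico.toH_conj, ← Ico.toH_mul] at ci cq
  have vi : (⟨⟨-1, 0⟩, ⟨-1, 0⟩, 0, 0⟩ : Ico).conj * ⟨⟨-1, 0⟩, ⟨1, 0⟩, 0, 0⟩ = ⟨0, ⟨-2, 0⟩, 0, 0⟩ := by
    decide +kernel
  have vq : (⟨⟨0, -1⟩, 0, ⟨1, 0⟩, 0⟩ : Ico).conj * ⟨0, 0, 0, ⟨-1, 0⟩⟩ =
      ⟨0, ⟨1, 0⟩, ⟨-1, 1⟩, ⟨-1, 1⟩⟩ := by decide +kernel
  rw [vi] at ci
  rw [vq] at cq
  have hJ := congrArg QuaternionAlgebra.imK ci
  have hK := congrArg QuaternionAlgebra.imJ ci
  simp [Ico.toH_re, Ico.toH_imI, Ico.toH_imJ, Ico.toH_imK, ZT.re_int] at hJ hK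
  have hJ0 : (c 0).imJ = 0 := by linarith
  have hK0 : (c 0).imK = 0 := by linarith
  have hI := congrArg QuaternionAlgebra.imK cq
  simp [Ico.toH_re, Ico.toH_imI, Ico.toH_imJ, Ico.toH_imK, ZT.re, hJ0, hK0, sig_eq] at hI
  have hI0 : (c 0).imI = 0 := by
    have ht := tau_sq
    have : tau * (-1 + tau) = 1 := by linarith
    nlinarith [hI, this]
  obtain ⟨r, hr⟩ : ∃ r : ℝ, c 0 = (r : ℍ[ℝ]) := ⟨(c 0).re, by ext <;> simp [hI0, hJ0, hK0]⟩
  have hall : ∀ t, c t = (r : ℍ[ℝ]) := by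
    intro t; fin_cases t <;> simp [hc1, hc2, hr]
  have hn := hiso (repPt 0) (repPt 0)
  have e : (z (repPt 0) : QV) = fun t => (r : ℍ[ℝ]) * (repPt 0 : QV) t := funext fun t => by
    rw [hz', hall, Quaternion.coe_mul_eq_smul, Quaternion.mul_coe_eq_smul]
  rw [qip_repPt, e] at hn
  have hn' : ((r * r : ℝ) : ℍ[ℝ]) * 4 = 4 := by
    rw [← qip_repPt 0]
    rw [← qip_repPt 0] at hn
    nth_rewrite 2 [← hn]
    simp only [qip, Quaternion.coe_mul_eq_smul, Quaternion.star_smul, smul_mul_assoc, mul_smul_comm,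
      smul_smul, ← Finset.smul_sum]
  have hr2 : r * r = 1 := by
    have h4 := congrArg QuaternionAlgebra.re hn'
    rw [show (4 : ℍ[ℝ]) = ((4 : ℝ) : ℍ[ℝ]) from rfl, ← Quaternion.coe_mul, Quaternion.re_coe,
      Quaternion.re_coe] at h4
    linarith
  rcases mul_self_eq_one_iff.1 hr2 with h | h
  · left
    refine Equiv.ext fun x => Subtype.ext (funext fun t => ?_)
    rw [hz', hall, h, Quaternion.coe_one, mul_one]; rfl
  · right
    refine Equiv.ext fun x => Subtype.ext (funext fun t => ?_)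
    rw [hz', hall, h, Quaternion.coe_neg, Quaternion.coe_one, mul_neg, mul_one]; rfl

theorem center_iff (g : twoJ2) :
    g ∈ Subgroup.center twoJ2 ↔ g = 1 ∨ (g : Equiv.Perm Pt) = negP := by
  constructor
  · intro hg
    rcases eq_of_fix_all g.2 (fun i => by
      have h := congrArg Subtype.val (Subgroup.mem_center_iff.1 hg
        ⟨F i, Subgroup.subset_closure (isIcoReflection_reflP _ (qip_repPt _))⟩)
      simp only [Subgroup.coe_mul] at h
      rw [← h, mul_inv_cancel_right]) with h | h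
    · exact Or.inl (Subtype.ext h)
    · exact Or.inr h
  · rintro (rfl | h)
    · exact one_mem _
    refine Subgroup.mem_center_iff.2 fun y => Subtype.ext ?_
    simp only [Subgroup.coe_mul, h]
    refine Equiv.ext fun x => Subtype.ext (funext fun t => ?_)
    show ((y : Equiv.Perm Pt) (negP x) : QV) t = -((y : Equiv.Perm Pt) x : QV) t
    obtain ⟨hl, -⟩ := twoJ2_le_isoGrp y.2
    have h00 := hl 1 (one_mem _) zeroPt zeroPt zeroPt (fun u => by simp [zeroPt_apply]) t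
    rw [one_mul, left_eq_add] at h00
    rw [hl (-1) (neg_mem (one_mem _)) x zeroPt (negP x) (fun u => by
      rw [zeroPt_apply, add_zero, neg_one_mul]; rfl) t, h00, add_zero, neg_one_mul]

theorem ker_rho : rho.ker = Subgroup.center twoJ2 := by
  ext g
  rw [MonoidHom.mem_ker, center_iff]
  constructor
  · intro h
    rcases eq_of_fix_all g.2 (fun i => by rw [← rho_spec, h]; rfl) with e | e
    · exact Or.inl (Subtype.ext e)
    · exact Or.inr e
  · intro h
    refine Equiv.ext fun i => F_injective ?_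
    have hc : g ∈ Subgroup.center twoJ2 := (center_iff g).2 h
    rw [rho_spec]
    have := congrArg Subtype.val (Subgroup.mem_center_iff.1 hc
      ⟨F i, Subgroup.subset_closure (isIcoReflection_reflP _ (qip_repPt _))⟩)
    simp only [Subgroup.coe_mul] at this
    rw [← this, mul_inv_cancel_right]; rfl

theorem card_center : Nat.card (Subgroup.center twoJ2) = 2 := by
  have h : (Subgroup.center twoJ2 : Set twoJ2) = {1, ⟨negP, negP_mem⟩} := by
    ext g
    rw [SetLike.mem_coe, center_iff, Set.mem_insert_iff, Set.mem_singleton_iff]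
    exact or_congr Iff.rfl ⟨fun h => Subtype.ext h, fun h => congrArg Subtype.val h⟩
  rw [← SetLike.coe_sort_coe, h, Nat.card_coe_set_eq, Set.ncard_pair]
  exact fun e => negP_ne_one (congrArg Subtype.val e).symm

end CfsgLib.Icosian
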