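import Mathlib
import Cfsg.Agent.Lib.Icosian.Center
import Cfsg.Agent.Lib.Icosian.Involutions

/-!
The Hall-Janko group of the icosian lattice is the simple group on a hundred points.
-/

set_option autoImplicit false
set_option maxRecDepth 100000

noncomputable section

namespace CfsgLib.Icosian

open CfsgLib.Sporadic CfsgLib.Sporadic.PermCode
open Cfsg.Spor (twoJ2)

/-- The four generating involutions on a hundred points. -/
def sGen (k : Fin 4) : Equiv.Perm HallJanko.Pt := T (gIdx k)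

theorem codeMem_T_gen {H : Subgroup (Equiv.Perm HallJanko.Pt)} (hH : ∀ k, sGen k ∈ H) :
    ∀ c ∈ (List.range 4).map (fun k => tc (genIdx.getD k 0 % 315)), CodeMem emb dec H c := by
  intro c hc
  obtain ⟨k, hk, rfl⟩ := List.mem_map.1 hc
  exact ⟨sGen ⟨k, List.mem_range.1 hk⟩, hH _, emb_T _⟩

theorem grp_eq : HallJanko.grp = Subgroup.closure (Set.range sGen) := by
  refine le_antisymm ?_ ((Subgroup.closure_le _).2 ?_)
  · have h : ∀ c ∈ HallJanko.gens, CodeMem emb dec (Subgroup.closure (Set.range sGen)) c := by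
      rw [← grp_words]
      intro c hc
      obtain ⟨w, -, rfl⟩ := List.mem_map.1 hc
      exact codeMem_genWord hmul HallJanko.hone
        (codeMem_T_gen fun k => Subgroup.subset_closure (Set.mem_range_self k)) w
    refine (Subgroup.closure_le _).2 ?_
    rintro g (rfl | rfl)
    · obtain ⟨g', hg', e⟩ := h (HallJanko.gens.getD 0 HallJanko.one) (by simp [HallJanko.gens])
      rwa [hemb (e.trans HallJanko.emb_A.symm)] at hg'
    · obtain ⟨g', hg', e⟩ := h (HallJanko.gens.getD 1 HallJanko.one) (by simp [HallJanko.gens])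
      rwa [hemb (e.trans HallJanko.emb_B.symm)] at hg'
  · rintro _ ⟨k, rfl⟩
    have hk : tc (genIdx.getD k 0 % 315) ∈ invWords.map (genWord mul HallJanko.one HallJanko.gens) := by
      rw [gen_words]
      exact List.mem_map.2 ⟨k, List.mem_range.2 k.2, rfl⟩
    obtain ⟨w, -, e⟩ := List.mem_map.1 hk
    obtain ⟨g', hg', e'⟩ := codeMem_genWord hmul HallJanko.hone HallJanko.gens_mem w
    rw [e] at e'
    rw [show g' = sGen k from hemb (e'.trans (emb_T (gIdx k)).symm)] at hg'
    exact hg'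

theorem sGen_mem (k : Fin 4) : sGen k ∈ HallJanko.grp :=
  grp_eq ▸ Subgroup.subset_closure ⟨k, rfl⟩

theorem exists_psi : ∃ φ : HallJanko.grp →* Equiv.Perm (Fin 315),
    ∀ g i, T (φ g i) = (g : Equiv.Perm HallJanko.Pt) * T i * (g : Equiv.Perm HallJanko.Pt)⁻¹ :=
  exists_indexHom (A := conjPerm (Equiv.Perm HallJanko.Pt)) T_injective grp_eq.le
    (by rintro _ ⟨k, rfl⟩ i; exact ⟨piFun k i, conj_T k i⟩)

/-- The action of the group on a hundred points on the indices of its involutions. -/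
def psi : HallJanko.grp →* Equiv.Perm (Fin 315) := exists_psi.choose

theorem psi_spec (g : HallJanko.grp) (i : Fin 315) :
    T (psi g i) = (g : Equiv.Perm HallJanko.Pt) * T i * (g : Equiv.Perm HallJanko.Pt)⁻¹ :=
  exists_psi.choose_spec g i

theorem psi_gen (k : Fin 4) : psi ⟨sGen k, sGen_mem k⟩ = rho ⟨gen k, twoJ2_eq ▸ Subgroup.subset_closure ⟨k, rfl⟩⟩ := by
  refine Equiv.ext fun i => ?_
  have h1 : psi ⟨sGen k, sGen_mem k⟩ i = piFun k i := T_injective ((psi_spec _ i).trans (conj_T k i))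
  have h2 : rho ⟨gen k, twoJ2_eq ▸ Subgroup.subset_closure ⟨k, rfl⟩⟩ i = piFun k i :=
    F_injective ((rho_spec _ i).trans (conj_F k i))
  rw [h1, h2]

theorem exists_psi_eq_rho (g : twoJ2) : ∃ h, psi h = rho g := by
  obtain ⟨g, hg⟩ := g
  have hg' : g ∈ Subgroup.closure (Set.range gen) := twoJ2_eq ▸ hg
  induction hg' using Subgroup.closure_induction with
  | mem x hx =>
    obtain ⟨k, rfl⟩ := hx
    exact ⟨_, psi_gen k⟩
  | one => exact ⟨1, by rw [map_one]; exact (map_one rho).symm⟩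
  | mul x y hx hy ihx ihy =>
    obtain ⟨a, ha⟩ := ihx (twoJ2_eq ▸ hx)
    obtain ⟨b, hb⟩ := ihy (twoJ2_eq ▸ hy)
    exact ⟨a * b, by rw [map_mul, ha, hb, ← map_mul]; rfl⟩
  | inv x hx ih =>
    obtain ⟨a, ha⟩ := ih (twoJ2_eq ▸ hx)
    exact ⟨a⁻¹, by rw [map_inv, ha, ← map_inv]; rfl⟩

theorem exists_rho_eq_psi (g : HallJanko.grp) : ∃ h, rho h = psi g := by
  obtain ⟨g, hg⟩ := g
  have hg' : g ∈ Subgroup.closure (Set.range sGen) := grp_eq ▸ hg
  induction hg' using Subgroup.closure_induction with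
  | mem x hx =>
    obtain ⟨k, rfl⟩ := hx
    exact ⟨_, (psi_gen k).symm⟩
  | one => exact ⟨1, by rw [map_one]; exact (map_one psi).symm⟩
  | mul x y hx hy ihx ihy =>
    obtain ⟨a, ha⟩ := ihx (grp_eq ▸ hx)
    obtain ⟨b, hb⟩ := ihy (grp_eq ▸ hy)
    exact ⟨a * b, by rw [map_mul, ha, hb, ← map_mul]; rfl⟩
  | inv x hx ih =>
    obtain ⟨a, ha⟩ := ih (grp_eq ▸ hx)
    exact ⟨a⁻¹, by rw [map_inv, ha, ← map_inv]; rfl⟩

theorem psi_injective : Function.Injective psi := by
  have := HallJanko.isSimple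
  rcases this.eq_bot_or_eq_top_of_normal psi.ker inferInstance with h | h
  · exact (MonoidHom.ker_eq_bot_iff _).1 h
  · exfalso
    have h1 : psi ⟨sGen 1, sGen_mem 1⟩ 0 = 0 := by
      rw [show psi ⟨sGen 1, sGen_mem 1⟩ = 1 from MonoidHom.mem_ker.1 (h ▸ Subgroup.mem_top _)]
      rfl
    have h2 : psi ⟨sGen 1, sGen_mem 1⟩ 0 = piFun 1 0 :=
      T_injective ((psi_spec _ _).trans (conj_T 1 0))
    have h3 : piFun 1 0 ≠ 0 := by decide +kernel
    exact h3 (h2.symm.trans h1)

theorem range_rho : rho.range = psi.range := le_antisymm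
  (by rintro _ ⟨g, rfl⟩; exact exists_psi_eq_rho g)
  (by rintro _ ⟨g, rfl⟩; exact exists_rho_eq_psi g)

theorem exists_equiv : ∃ e : Cfsg.Spor.J2 ≃* HallJanko.grp, ∀ y : twoJ2, psi (e (y : Cfsg.Spor.J2)) = rho y := by
  refine ⟨((QuotientGroup.quotientMulEquivOfEq ker_rho.symm).trans
    (QuotientGroup.quotientKerEquivRange rho)).trans
    ((MulEquiv.subgroupCongr range_rho).trans (MonoidHom.ofInjective psi_injective).symm), fun y => ?_⟩
  simp only [MulEquiv.trans_apply]
  rw [MonoidHom.apply_ofInjective_symm psi_injective]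
  rfl

/-- The isomorphism with the group on a hundred points. -/
def toHJ : Cfsg.Spor.J2 ≃* HallJanko.grp := exists_equiv.choose

theorem toHJ_spec (y : twoJ2) : psi (toHJ (y : Cfsg.Spor.J2)) = rho y :=
  exists_equiv.choose_spec y

theorem card_J2 : Nat.card Cfsg.Spor.J2 = 604800 :=
  (Nat.card_congr toHJ.toEquiv).trans HallJanko.card_grp

theorem card_twoJ2 : Nat.card twoJ2 = 1209600 := by
  rw [Subgroup.card_eq_card_quotient_mul_card_subgroup (Subgroup.center twoJ2), card_center]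
  rw [show Nat.card (twoJ2 ⧸ Subgroup.center twoJ2) = 604800 from card_J2]

theorem isSimple_J2 : IsSimpleGroup Cfsg.Spor.J2 := by
  have := HallJanko.isSimple
  exact MulEquiv.isSimpleGroup toHJ

theorem nonabelian_J2 : ∃ a b : Cfsg.Spor.J2, a * b ≠ b * a := by
  obtain ⟨a, b, h⟩ : ∃ a b : HallJanko.grp, a * b ≠ b * a := by
    by_contra hne
    push Not at hne
    have hc := hne ⟨sGen 0, sGen_mem 0⟩ ⟨sGen 1, sGen_mem 1⟩
    have h1 := conj_T 0 (gIdx 1)
    have hc' : sGen 0 * sGen 1 = sGen 1 * sGen 0 := congrArg Subtype.val hc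
    rw [show T (gIdx 0) * T (gIdx 1) = T (gIdx 1) * T (gIdx 0) from hc', mul_inv_cancel_right] at h1
    exact (by decide +kernel : gIdx 1 ≠ piFun 0 (gIdx 1)) (T_injective h1)
  exact ⟨toHJ.symm a, toHJ.symm b, fun e => h (toHJ.symm.injective (by rw [map_mul, map_mul, e]))⟩

end CfsgLib.Icosian
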