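import Mathlib
import Cfsg.Agent.Lib.Icosian.Model
import Cfsg.Agent.Lib.Icosian.Extraspecial
import Cfsg.Agent.Lib.Icosian.CentralizerCheck
import Cfsg.Agent.Lib.LargeExtra.Transport

/-!
The centraliser of a reflection in the Hall-Janko group.
-/

set_option autoImplicit false
set_option maxRecDepth 100000

noncomputable section

namespace CfsgLib.Icosian.Cent

open CfsgLib.Sporadic CfsgLib.Sporadic.PermCode
open Cfsg.Spor (twoJ2 J2)

/-- An unordered pair carried by a permutation. -/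
def permSym2 (X : Type*) : Equiv.Perm X →* Equiv.Perm (Sym2 X) where
  toFun e := ⟨Sym2.map e, Sym2.map e.symm, fun a => by simp [Sym2.map_map], fun a => by simp [Sym2.map_map]⟩
  map_one' := Equiv.ext fun a => by simp
  map_mul' a b := Equiv.ext fun c => by simp [Sym2.map_map]

/-- The two generators. -/
def hP (j : Fin 2) : Equiv.Perm HallJanko.Pt :=
  ofCodes (hc j) (hInvCodes.getD j HallJanko.one) (fun p => Fin.ext (h_inv j p).1) (fun p => Fin.ext (h_inv j p).2)

theorem emb_hP (j : Fin 2) : emb (hP j) = dec (hc j) := emb_ofCodes _ _ _ _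

theorem prodEq_eq {g a b h : Equiv.Perm HallJanko.Pt} {cg ca cb ch : ℕ} (hg : emb g = dec cg)
    (ha : emb a = dec ca) (hb : emb b = dec cb) (hh : emb h = dec ch)
    (e : prodEq cg ca cb ch = true) : g * a = b * h := by
  simp only [prodEq, List.all_eq_true, List.mem_range, beq_iff_eq] at e
  refine Equiv.ext fun p => Fin.ext ?_
  simp only [Equiv.Perm.mul_apply]
  rw [apply_eq hg, apply_eq ha, apply_eq hb, apply_eq hh]
  exact e p p.2

theorem prodEq_ne {g a b h : Equiv.Perm HallJanko.Pt} {cg ca cb ch : ℕ} (hg : emb g = dec cg)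
    (ha : emb a = dec ca) (hb : emb b = dec cb) (hh : emb h = dec ch)
    (e : (!prodEq cg ca cb ch) = true) : g * a ≠ b * h := by
  intro heq
  rw [Bool.not_eq_true', ← Bool.not_eq_true] at e
  refine e ?_
  simp only [prodEq, List.all_eq_true, List.mem_range, beq_iff_eq]
  intro p hp
  have h' := congrArg Fin.val (Equiv.congr_fun heq ⟨p, hp⟩)
  simp only [Equiv.Perm.mul_apply] at h'
  rwa [apply_eq hg, apply_eq ha, apply_eq hb, apply_eq hh] at h'

theorem hP_mem (j : Fin 2) : hP j ∈ HallJanko.grp := by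
  have hj : hc j ∈ hWords.map (genWord mul HallJanko.one HallJanko.gens) := by
    rw [h_word, hc]
    revert j; decide +kernel
  obtain ⟨w, -, e⟩ := List.mem_map.1 hj
  obtain ⟨g, hg, eg⟩ := codeMem_genWord hmul HallJanko.hone HallJanko.gens_mem w
  rw [e] at eg
  rwa [hemb (eg.trans (emb_hP j).symm)] at hg

/-- The involution. -/
def t0 : HallJanko.grp := ⟨sGen 0, sGen_mem 0⟩

theorem gIdx_zero : gIdx 0 = 0 := by decide +kernel

theorem t0_coe : (t0 : Equiv.Perm HallJanko.Pt) = T 0 := by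
  show sGen 0 = T 0
  rw [sGen, gIdx_zero]

/-- The generators in the group. -/
def hG (j : Fin 2) : HallJanko.grp := ⟨hP j, hP_mem j⟩

/-- The centraliser. -/
def H : Subgroup HallJanko.grp := Subgroup.closure (Set.range hG)

theorem H_le : H ≤ Subgroup.centralizer {t0} := by
  refine (Subgroup.closure_le _).2 ?_
  rintro _ ⟨j, rfl⟩
  refine Subgroup.mem_centralizer_singleton_iff.2 (Subtype.ext ?_)
  show hP j * (t0 : Equiv.Perm HallJanko.Pt) = (t0 : Equiv.Perm HallJanko.Pt) * hP j
  rw [t0_coe]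
  exact prodEq_eq (emb_hP j) (emb_T 0) (emb_T 0) (emb_hP j) (h_comm j)

theorem card_centralizer : Nat.card (Subgroup.centralizer {t0}) = 1920 := by
  let _ : MulAction HallJanko.grp (Fin 315) := MulAction.compHom _ psi
  have horb : MulAction.orbit HallJanko.grp (0 : Fin 315) = Set.univ := by
    refine Set.eq_univ_of_forall fun i => ?_
    obtain ⟨g, hg, e⟩ := exists_conj i
    rw [← twoJ2_eq] at hg
    obtain ⟨h, hh⟩ := exists_psi_eq_rho ⟨g, hg⟩
    refine ⟨h, ?_⟩
    show psi h 0 = i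
    rw [hh]
    exact F_injective ((rho_spec _ _).trans e)
  have hstab : MulAction.stabilizer HallJanko.grp (0 : Fin 315) = Subgroup.centralizer {t0} := by
    ext g
    rw [MulAction.mem_stabilizer_iff, Subgroup.mem_centralizer_singleton_iff, Subtype.ext_iff,
      Subgroup.coe_mul, Subgroup.coe_mul, t0_coe, ← mul_inv_eq_iff_eq_mul, ← psi_spec]
    exact ⟨fun h => congrArg T h, fun h => T_injective h⟩
  have h := (MulAction.stabilizer HallJanko.grp (0 : Fin 315)).card_mul_index
  rw [MulAction.index_stabilizer, horb, Set.ncard_univ, Nat.card_fin, HallJanko.card_grp, hstab] at h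
  omega

open Classical in
/-- Decoding of a code known to be of an involution. -/
def pairPerm (c : ℕ) : Equiv.Perm HallJanko.Pt :=
  if h : dec c * dec c = 1 then ofCodes c c (fun p => congrFun h p) (fun p => congrFun h p) else 1

theorem emb_pairPerm {c : ℕ} (h : c ∈ pairCodes.map Prod.fst ++ pairCodes.map Prod.snd) :
    emb (pairPerm c) = dec c := by
  have h2 : dec c * dec c = 1 := by
    rw [← hmul, beq_iff_eq.1 (List.all_eq_true.1 pair_nodup.2.2.2 c h), HallJanko.hone]
  rw [pairPerm, dif_pos h2, emb_ofCodes]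

theorem pa_mem (i : Fin 5) : (pa i).1 ∈ pairCodes.map Prod.fst ++ pairCodes.map Prod.snd ∧
    (pa i).2 ∈ pairCodes.map Prod.fst ++ pairCodes.map Prod.snd := by
  have hi : (i : ℕ) < pairCodes.length := pair_nodup.2.1.symm ▸ i.2
  rw [pa, List.getD_eq_getElem _ _ hi]
  exact ⟨List.mem_append_left _ (List.mem_map.2 ⟨_, List.getElem_mem hi, rfl⟩),
    List.mem_append_right _ (List.mem_map.2 ⟨_, List.getElem_mem hi, rfl⟩)⟩

/-- The five objects. -/
def obj (i : Fin 5) : Sym2 (Equiv.Perm HallJanko.Pt) := s(pairPerm (pa i).1, pairPerm (pa i).2)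

theorem pairPerm_inj {c d : ℕ} (hc : c ∈ pairCodes.map Prod.fst ++ pairCodes.map Prod.snd)
    (hd : d ∈ pairCodes.map Prod.fst ++ pairCodes.map Prod.snd) (h : pairPerm c = pairPerm d) :
    c = d := by
  refine hinj _ _ (List.all_eq_true.1 pair_nodup.2.2.1 c hc) (List.all_eq_true.1 pair_nodup.2.2.1 d hd) ?_
  rw [← emb_pairPerm hc, ← emb_pairPerm hd, h]

theorem obj_injective : Function.Injective obj := by
  intro i j h
  have key : ∀ i j : Fin 5, ((pa i).1 = (pa j).1 ∨ (pa i).1 = (pa j).2) → i = j := by decide +kernel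
  rw [obj, obj, Sym2.eq_iff] at h
  rcases h with ⟨h, -⟩ | ⟨h, -⟩
  · exact key i j (Or.inl (pairPerm_inj (pa_mem i).1 (pa_mem j).1 h))
  · exact key i j (Or.inr (pairPerm_inj (pa_mem i).1 (pa_mem j).2 h))

/-- The action on pairs. -/
def act : HallJanko.grp →* Equiv.Perm (Sym2 (Equiv.Perm HallJanko.Pt)) :=
  (permSym2 _).comp ((conjPerm _).comp HallJanko.grp.subtype)

theorem act_obj {g : HallJanko.grp} {cg : ℕ} (hg : emb (g : Equiv.Perm HallJanko.Pt) = dec cg)
    {i j : Fin 5}
    (e : (prodEq cg (pa i).1 (pa j).1 cg && prodEq cg (pa i).2 (pa j).2 cg ||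
      prodEq cg (pa i).1 (pa j).2 cg && prodEq cg (pa i).2 (pa j).1 cg) = true) :
    act g (obj i) = obj j := by
  show s((g : Equiv.Perm HallJanko.Pt) * pairPerm (pa i).1 * (g : Equiv.Perm HallJanko.Pt)⁻¹,
    (g : Equiv.Perm HallJanko.Pt) * pairPerm (pa i).2 * (g : Equiv.Perm HallJanko.Pt)⁻¹) = _
  obtain ⟨i1, i2⟩ := pa_mem i
  obtain ⟨j1, j2⟩ := pa_mem j
  rw [Bool.or_eq_true, Bool.and_eq_true, Bool.and_eq_true] at e
  rw [obj, Sym2.eq_iff]
  rcases e with ⟨ea, eb⟩ | ⟨ea, eb⟩
  · exact Or.inl ⟨mul_inv_eq_iff_eq_mul.2 (prodEq_eq hg (emb_pairPerm i1) (emb_pairPerm j1) hg ea),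
      mul_inv_eq_iff_eq_mul.2 (prodEq_eq hg (emb_pairPerm i2) (emb_pairPerm j2) hg eb)⟩
  · exact Or.inr ⟨mul_inv_eq_iff_eq_mul.2 (prodEq_eq hg (emb_pairPerm i1) (emb_pairPerm j2) hg ea),
      mul_inv_eq_iff_eq_mul.2 (prodEq_eq hg (emb_pairPerm i2) (emb_pairPerm j1) hg eb)⟩

theorem exists_phi : ∃ φ : H →* Equiv.Perm (Fin 5), ∀ g i, obj (φ g i) = act (g : HallJanko.grp) (obj i) :=
  exists_indexHom obj_injective (S := Set.range hG) le_rfl (by
    rintro _ ⟨j, rfl⟩ i
    exact ⟨⟨im j i % 5, Nat.mod_lt _ (by norm_num)⟩, act_obj (emb_hP j) (h_pairs j i)⟩)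

/-- The action on the five pairs. -/
def phi : H →* Equiv.Perm (Fin 5) := exists_phi.choose

theorem phi_spec (g : H) (i : Fin 5) : obj (phi g i) = act (g : HallJanko.grp) (obj i) :=
  exists_phi.choose_spec g i

/-- The generators in the centraliser. -/
def hH (j : Fin 2) : H := ⟨hG j, Subgroup.subset_closure ⟨j, rfl⟩⟩

/-- The first permutation. -/
def pA : Equiv.Perm (Fin 5) := Equiv.swap 1 2 * Equiv.swap 3 4

/-- The second permutation. -/
def pB : Equiv.Perm (Fin 5) where
  toFun := ![1, 4, 3, 0, 2]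
  invFun := ![3, 0, 4, 2, 1]
  left_inv := by decide
  right_inv := by decide

theorem phi_hH (j : Fin 2) : phi (hH j) = ![pA, pB] j := by
  refine Equiv.ext fun i => obj_injective ?_
  rw [phi_spec]
  have key : ∀ j : Fin 2, ∀ i : Fin 5, ((![pA, pB] j) i : ℕ) = im j i % 5 := by decide +kernel
  refine act_obj (emb_hP j) ?_
  have h := h_pairs j i
  simp only [← key j i] at h
  exact h

theorem sign_gens : ∀ j : Fin 2, Equiv.Perm.sign (![pA, pB] j) = 1 := by decide +kernel

theorem alt_words : ∀ g : Equiv.Perm (Fin 5), Equiv.Perm.sign g = 1 →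
    ∃ w ∈ altWords, (w.map fun k => ![pA, pB] ⟨k % 2, Nat.mod_lt _ (by norm_num)⟩).prod = g := by
  decide +kernel

theorem range_phi : phi.range = alternatingGroup (Fin 5) := by
  refine le_antisymm ?_ ?_
  · rintro _ ⟨⟨g, hg⟩, rfl⟩
    induction hg using Subgroup.closure_induction with
    | mem x hx =>
      obtain ⟨j, rfl⟩ := hx
      show phi (hH j) ∈ _
      rw [phi_hH, Equiv.Perm.mem_alternatingGroup]
      exact sign_gens j
    | one => exact (map_one phi).symm ▸ one_mem _
    | mul x y hx hy ihx ihy =>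
      have e : (⟨x * y, mul_mem hx hy⟩ : H) = ⟨x, hx⟩ * ⟨y, hy⟩ := rfl
      rw [e, map_mul]
      exact mul_mem ihx ihy
    | inv x hx ih =>
      have e : (⟨x⁻¹, inv_mem hx⟩ : H) = (⟨x, hx⟩ : H)⁻¹ := rfl
      rw [e, map_inv]
      exact inv_mem ih
  · intro g hg
    obtain ⟨w, -, rfl⟩ := alt_words g (Equiv.Perm.mem_alternatingGroup.1 hg)
    refine list_prod_mem fun x hx => ?_
    obtain ⟨k, -, rfl⟩ := List.mem_map.1 hx
    exact ⟨hH _, phi_hH _⟩

/-- An element of the normal subgroup. -/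
def qH (i : Fin 32) : H :=
  ((qWords.getD i []).map fun k => hH ⟨k % 2, Nat.mod_lt _ (by norm_num)⟩).prod

theorem emb_prod_hH : ∀ w : List ℕ, (∀ k ∈ w, k < 2) →
    emb ((((w.map fun k => hH ⟨k % 2, Nat.mod_lt _ (by norm_num)⟩).prod : H) : HallJanko.grp) :
      Equiv.Perm HallJanko.Pt) = dec (genWord mul HallJanko.one hCodes w) := by
  intro w
  induction w with
  | nil => intro _; rw [genWord, HallJanko.hone]; exact map_one emb
  | cons k w ih =>
    intro h
    rw [List.map_cons, List.prod_cons, Subgroup.coe_mul, Subgroup.coe_mul, map_mul, genWord, hmul,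
      ih fun x hx => h x (List.mem_cons_of_mem _ hx)]
    congr 1
    have hk := h k List.mem_cons_self
    show emb (hP ⟨k % 2, _⟩) = _
    rw [emb_hP, hc]
    congr 2
    exact Nat.mod_eq_of_lt hk

theorem emb_qH (i : Fin 32) : emb ((qH i : HallJanko.grp) : Equiv.Perm HallJanko.Pt) = dec (qc i) := by
  have h1 : ∀ i : Fin 32, (∀ k ∈ qWords.getD i [], k < 2) ∧
      genWord mul HallJanko.one hCodes (qWords.getD i []) = qc i := by
    intro i
    have hlen : qWords.length = 32 := by decide +kernel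
    have hl : (i : ℕ) < qWords.length := by rw [hlen]; exact i.2
    have hl' : (i : ℕ) < qCodes.length := by rw [q_canon.2.1]; exact i.2
    refine ⟨by revert i; decide +kernel, ?_⟩
    rw [qc, List.getD_eq_getElem _ _ hl, List.getD_eq_getElem _ _ hl']
    simp only [← q_word, List.getElem_map]
  rw [qH, emb_prod_hH _ (h1 i).1, (h1 i).2]

theorem qH_mem_ker (i : Fin 32) : qH i ∈ phi.ker := by
  rw [MonoidHom.mem_ker]
  refine Equiv.ext fun j => obj_injective ?_
  rw [phi_spec]
  exact act_obj (emb_qH i) (q_pairs i j)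

theorem eq_of_emb {x y : H}
    (h : emb ((x : HallJanko.grp) : Equiv.Perm HallJanko.Pt) = emb ((y : HallJanko.grp) : Equiv.Perm HallJanko.Pt)) :
    x = y :=
  Subtype.ext (Subtype.ext (hemb h))

theorem qH_injective : Function.Injective qH := by
  intro i j h
  have hi : (i : ℕ) < qCodes.length := q_canon.2.1.symm ▸ i.2
  have hj : (j : ℕ) < qCodes.length := q_canon.2.1.symm ▸ j.2
  have hd : dec (qc i) = dec (qc j) := by rw [← emb_qH, ← emb_qH, h]
  have e := hinj (qc i) (qc j) ?_ ?_ hd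
  · rw [qc, qc, List.getD_eq_getElem _ _ hi, List.getD_eq_getElem _ _ hj] at e
    exact Fin.ext ((List.Nodup.getElem_inj_iff q_canon.1).1 e)
  all_goals
    rw [qc, List.getD_eq_getElem _ _ (by assumption)]
    exact List.all_eq_true.1 q_canon.2.2.1 _ (List.getElem_mem _)

theorem card_facts : Nat.card phi.ker = 32 ∧ H = Subgroup.centralizer {t0} := by
  have h60 : Nat.card (alternatingGroup (Fin 5)) = 60 := by
    rw [nat_card_alternatingGroup, Nat.card_fin]; decide
  have hidx : phi.ker.index = 60 := by rw [Subgroup.index_ker, range_phi, h60]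
  have hge : 32 ≤ Nat.card phi.ker := by
    have := Nat.card_le_card_of_injective (fun i => (⟨qH i, qH_mem_ker i⟩ : phi.ker))
      fun a b hab => qH_injective (congrArg Subtype.val hab)
    simpa using this
  have hmul := phi.ker.card_mul_index
  rw [hidx] at hmul
  have hle : Nat.card H ≤ 1920 := card_centralizer ▸ Subgroup.card_le_of_le H_le
  refine ⟨by omega, Subgroup.eq_of_le_of_card_ge H_le ?_⟩
  rw [card_centralizer]; omega

theorem ker_surj : Function.Surjective fun i => (⟨qH i, qH_mem_ker i⟩ : phi.ker) :=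
  (Nat.bijective_iff_injective_and_card _).2
    ⟨fun _ _ hab => qH_injective (congrArg Subtype.val hab), by rw [Nat.card_fin, card_facts.1]⟩ |>.2

theorem qH_zero : qH 0 = 1 := by
  refine eq_of_emb ?_
  rw [emb_qH, show qc ((0 : Fin 32) : ℕ) = HallJanko.one from q_canon.2.2.2.1, HallJanko.hone]
  exact (map_one emb).symm

theorem extraspecial_ker : Cfsg.IsExtraspecial 2 phi.ker := by
  have hker : ∀ x : phi.ker, ∃ i, (⟨qH i, qH_mem_ker i⟩ : phi.ker) = x := ker_surj
  have e1 : ∀ x y : phi.ker, (((x * y : phi.ker) : H) : HallJanko.grp).1 =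
      ((x : H) : HallJanko.grp).1 * ((y : H) : HallJanko.grp).1 := fun _ _ => rfl
  set z : phi.ker := ⟨qH 7, qH_mem_ker 7⟩ with hz
  set q0 : phi.ker := ⟨qH 0, qH_mem_ker 0⟩ with hq0
  have h0 : q0 = 1 := Subtype.ext qH_zero
  have lift : ∀ x y u v : phi.ker, ((x : H) : HallJanko.grp).1 * ((y : H) : HallJanko.grp).1 =
      ((u : H) : HallJanko.grp).1 * ((v : H) : HallJanko.grp).1 → x * y = u * v :=
    fun x y u v h => Subtype.ext (Subtype.ext (Subtype.ext h))
  have noncomm : ∀ i j : Fin 32, (!prodEq (qc i) (qc j) (qc j) (qc i)) = true →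
      (⟨qH i, qH_mem_ker i⟩ : phi.ker) * ⟨qH j, qH_mem_ker j⟩ ≠
        ⟨qH j, qH_mem_ker j⟩ * ⟨qH i, qH_mem_ker i⟩ := by
    intro i j h e
    exact prodEq_ne (emb_qH i) (emb_qH j) (emb_qH j) (emb_qH i) h
      (congrArg (fun x : phi.ker => ((x : H) : HallJanko.grp).1) e)
  have hzt : ((qH 7 : HallJanko.grp) : Equiv.Perm HallJanko.Pt) = T 0 := hemb (by
    rw [emb_qH, emb_T]; exact congrArg dec q_canon.2.2.2.2)
  refine isExtraspecial_of_table (IsPGroup.of_card (n := 5) (by rw [card_facts.1]; norm_num)) (z := z)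
    ?_ ?_ ?_ ?_ ?_ ?_ ?_
  · intro h
    rw [← h0] at h
    exact absurd (qH_injective (congrArg Subtype.val h)) (by decide)
  · refine (lift z z q0 q0 ?_).trans (by rw [h0, one_mul])
    rcases Bool.or_eq_true_iff.1 (q_sq 7) with h | h
    · exact prodEq_eq (emb_qH 7) (emb_qH 7) (emb_qH 0) (emb_qH 0) h
    · exfalso
      have e := prodEq_eq (emb_qH 7) (emb_qH 7) (emb_qH 0) (emb_qH 7) h
      rw [qH_zero] at e
      simp only [Subgroup.coe_one, one_mul] at e
      have h7 : qH 7 = 1 := Subtype.ext (Subtype.ext (mul_eq_left.1 e))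
      exact absurd (qH_injective (h7.trans qH_zero.symm)) (by decide)
  · intro x
    have hx := H_le (x : H).2
    rw [Subgroup.mem_centralizer_singleton_iff] at hx
    refine lift z x x z ?_
    show (qH 7 : HallJanko.grp).1 * _ = _ * (qH 7 : HallJanko.grp).1
    rw [hzt, ← t0_coe]
    exact (congrArg Subtype.val hx).symm
  · intro x
    obtain ⟨i, rfl⟩ := hker x
    rcases Bool.or_eq_true_iff.1 (q_sq i) with h | h
    · left
      exact (lift _ _ q0 q0 (prodEq_eq (emb_qH i) (emb_qH i) (emb_qH 0) (emb_qH 0) h)).trans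
        (by rw [h0, one_mul])
    · right
      exact (lift _ _ q0 z (prodEq_eq (emb_qH i) (emb_qH i) (emb_qH 0) (emb_qH 7) h)).trans
        (by rw [h0, one_mul])
  · intro x y
    obtain ⟨i, rfl⟩ := hker x
    obtain ⟨j, rfl⟩ := hker y
    have h := List.all_eq_true.1 (List.all_eq_true.1 q_comm i (List.mem_range.2 i.2)) j (List.mem_range.2 j.2)
    rcases Bool.or_eq_true_iff.1 h with h | h
    · exact Or.inl (lift _ _ _ _ (prodEq_eq (emb_qH i) (emb_qH j) (emb_qH j) (emb_qH i) h))
    · right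
      simp only [List.all_eq_true, List.mem_range, beq_iff_eq] at h
      refine Subtype.ext (Subtype.ext (Subtype.ext (Equiv.ext fun p => Fin.ext ?_)))
      show (((qH i : HallJanko.grp).1 * (qH j : HallJanko.grp).1) p : ℕ) =
        (((qH 7 : HallJanko.grp).1 * ((qH j : HallJanko.grp).1 * (qH i : HallJanko.grp).1)) p : ℕ)
      simp only [Equiv.Perm.mul_apply]
      rw [apply_eq (emb_qH i), apply_eq (emb_qH j), apply_eq (emb_qH 7), apply_eq (emb_qH j),
        apply_eq (emb_qH i)]
      exact h p p.2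
  · intro x hx
    obtain ⟨i, rfl⟩ := hker x
    have h := List.all_eq_true.1 q_center i (List.mem_range.2 i.2)
    simp only [Bool.or_eq_true, beq_iff_eq, List.any_eq_true, List.mem_range] at h
    rcases h with (h | h) | ⟨j, hj, h⟩
    · left; rw [← h0]; exact Subtype.ext (congrArg qH (Fin.ext h))
    · right; exact Subtype.ext (congrArg qH (Fin.ext h))
    · exact absurd (hx _) (noncomm i ⟨j, hj⟩ h)
  · have h := q_noncomm
    simp only [List.any_eq_true, List.mem_range] at h
    obtain ⟨i, hi, j, hj, h⟩ := h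
    exact ⟨_, _, noncomm ⟨i, hi⟩ ⟨j, hj⟩ h⟩

/-- The shape of the centraliser. -/
def Shape (G : Type) [Group G] : Prop :=
  ∃ (Q : Subgroup G) (_ : Q.Normal), Nat.card Q = 32 ∧ Cfsg.IsExtraspecial 2 Q ∧
    Nonempty (G ⧸ Q ≃* alternatingGroup (Fin 5))

theorem shape_H : Shape H :=
  ⟨phi.ker, inferInstance, card_facts.1, extraspecial_ker,
    ⟨(QuotientGroup.quotientKerEquivRange phi).trans (MulEquiv.subgroupCongr range_phi)⟩⟩

theorem shape_congr {G G' : Type} [Group G] [Group G'] (e : G ≃* G') (h : Shape G) : Shape G' := by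
  obtain ⟨Q, hQ, hc, hx, ⟨q⟩⟩ := h
  have : Fact (Nat.Prime 2) := ⟨Nat.prime_two⟩
  have : Finite Q := Nat.finite_of_card_ne_zero (by rw [hc]; norm_num)
  let eQ : Q ≃* Q.map (e : G →* G') := e.subgroupMap Q
  have hN : (Q.map (e : G →* G')).Normal := hQ.map _ e.surjective
  exact ⟨_, hN, by rw [← Nat.card_congr eQ.toEquiv, hc], CfsgLib.LargeExtra.isExtraspecial_of_equiv eQ hx,
    ⟨((QuotientGroup.congr Q _ e rfl).symm).trans q⟩⟩

theorem centralizer_map {G G' : Type*} [Group G] [Group G'] (e : G ≃* G') (a : G) :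
    Subgroup.centralizer {e a} = (Subgroup.centralizer {a}).map (e : G →* G') := by
  ext x
  rw [Subgroup.mem_centralizer_singleton_iff, Subgroup.mem_map]
  constructor
  · intro h
    exact ⟨e.symm x, Subgroup.mem_centralizer_singleton_iff.2 (e.injective (by simpa using h)), by simp⟩
  · rintro ⟨y, hy, rfl⟩
    simpa using congrArg e (Subgroup.mem_centralizer_singleton_iff.1 hy)

theorem shape_centralizer (f : Equiv.Perm Pt) (hf : Cfsg.Spor.IsIcoReflection f) (hfm : f ∈ twoJ2) :
    Shape (Subgroup.centralizer {(QuotientGroup.mk ⟨f, hfm⟩ : J2)}) := by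
  have hC : Shape (Subgroup.centralizer {t0}) :=
    shape_congr (MulEquiv.subgroupCongr card_facts.2) shape_H
  have hg0 : gen 0 ∈ twoJ2 := twoJ2_eq ▸ Subgroup.subset_closure (Set.mem_range_self 0)
  have ht : toHJ.symm t0 = ((⟨gen 0, hg0⟩ : twoJ2) : J2) := by
    obtain ⟨y, hy⟩ := QuotientGroup.mk_surjective (toHJ.symm t0)
    have hpsi : ∀ y : twoJ2, psi (toHJ (y : J2)) = rho y := toHJ_spec
    have e := hpsi y
    rw [hy, MulEquiv.apply_symm_apply] at e
    rw [← hy]
    refine (QuotientGroup.eq.2 ?_).symm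
    rw [← ker_rho, MonoidHom.mem_ker, map_mul, map_inv, inv_mul_eq_one, ← e]
    exact (psi_gen 0).symm
  obtain ⟨i, rfl⟩ := exists_F hf
  obtain ⟨g, hg, hgi⟩ := exists_conj i
  rw [← twoJ2_eq] at hg
  have hconj : (QuotientGroup.mk ⟨F i, hfm⟩ : J2) =
      MulAut.conj ((⟨g, hg⟩ : twoJ2) : J2) (toHJ.symm t0) := by
    rw [ht, MulAut.conj_apply, ← QuotientGroup.mk_mul, ← QuotientGroup.mk_inv, ← QuotientGroup.mk_mul]
    refine congrArg _ (Subtype.ext ?_)
    show F i = g * gen 0 * g⁻¹
    rw [← hgi, gen, gIdx_zero]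
  rw [hconj, centralizer_map, centralizer_map]
  exact shape_congr (MulEquiv.subgroupMap (MulAut.conj _) _)
    (shape_congr (toHJ.symm.subgroupMap _) hC)

end CfsgLib.Icosian.Cent
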