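import Mathlib
import Cfsg.Agent.Lib.Recognition.G2Four.Model

/-!
Six by six matrices over four elements coded as numbers.
-/

set_option autoImplicit false
set_option maxRecDepth 100000

noncomputable section

namespace CfsgLib.Icosian.Six

open CfsgLib.Recognition.G2Four

/-- Matrices. -/
abbrev M6 : Type := Matrix (Fin 6) (Fin 6) F4

/-- The number with given base four digits. -/
def pack : ℕ → (ℕ → ℕ) → ℕ :=
  fun n f => Nat.rec (motive := fun _ => (ℕ → ℕ) → ℕ) (fun _ => 0)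
    (fun _ r g => g 0 + 4 * r fun i => g (i + 1)) n f

theorem pack_succ (n : ℕ) (f : ℕ → ℕ) : pack (n + 1) f = f 0 + 4 * pack n fun i => f (i + 1) := rfl

/-- A base four digit. -/
def dig (c i : ℕ) : ℕ := c / 4 ^ i % 4

theorem dig_pack : ∀ (n : ℕ) (f : ℕ → ℕ), (∀ i, f i < 4) → ∀ i, i < n → dig (pack n f) i = f i
  | 0, _, _, i, hi => absurd hi (Nat.not_lt_zero i)
  | n + 1, f, hf, 0, _ => by
    rw [dig, pack_succ, pow_zero, Nat.div_one, Nat.add_mul_mod_self_left, Nat.mod_eq_of_lt (hf 0)]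
  | n + 1, f, hf, i + 1, hi => by
    rw [dig, pack_succ, pow_succ', ← Nat.div_div_eq_div_mul, Nat.add_mul_div_left _ _ (by norm_num),
      Nat.div_eq_of_lt (hf 0), zero_add]
    exact dig_pack n (fun j => f (j + 1)) (fun j => hf _) i (by omega)

/-- The matrix of a code. -/
def dec (c : ℕ) : M6 := Matrix.of fun i j => F4.ofN (dig c (6 * i.val + j.val))

/-- The product of two entries given by their bit patterns. -/
def fmul (a b : ℕ) : ℕ := F4.mulTable >>> (2 * (4 * a + b)) % 4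

/-- An entry of a product. -/
def entry (a b k : ℕ) : ℕ :=
  let f : ℕ → ℕ := fun l => fmul (dig a (6 * (k / 6) + l)) (dig b (6 * l + k % 6))
  (f 0 ^^^ (f 1 ^^^ (f 2 ^^^ (f 3 ^^^ (f 4 ^^^ f 5))))) % 4

/-- The product of codes. -/
def mulC (a b : ℕ) : ℕ := pack 36 (entry a b)

theorem ofN_mul : ∀ a b : Fin 4, F4.ofN a * F4.ofN b = F4.ofN (fmul a b) := by decide +kernel

theorem ofN_add : ∀ a b : Fin 4, F4.ofN a + F4.ofN b = F4.ofN ((a : ℕ) ^^^ b) := by decide +kernel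

theorem dec_mulC (a b : ℕ) : dec (mulC a b) = dec a * dec b := by
  refine Matrix.ext fun i j => ?_
  have hk : 6 * i.val + j.val < 36 := by omega
  rw [Matrix.mul_apply, Fin.sum_univ_six]
  simp only [dec, Matrix.of_apply]
  rw [mulC, dig_pack 36 (entry a b) (fun _ => Nat.mod_lt _ (by norm_num)) _ hk]
  have e1 : (6 * i.val + j.val) / 6 = i.val := by omega
  have e2 : (6 * i.val + j.val) % 6 = j.val := by omega
  simp only [entry, e1, e2]
  have hm : ∀ l, F4.ofN (dig a (6 * i.val + l)) * F4.ofN (dig b (6 * l + j.val)) =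
      F4.ofN (fmul (dig a (6 * i.val + l)) (dig b (6 * l + j.val))) := fun l =>
    ofN_mul ⟨_, Nat.mod_lt _ (by norm_num)⟩ ⟨_, Nat.mod_lt _ (by norm_num)⟩
  have hb : ∀ x y, fmul x y < 4 := fun _ _ => Nat.mod_lt _ (by norm_num)
  have ha : ∀ x y : ℕ, x < 4 → y < 4 → F4.ofN x + F4.ofN y = F4.ofN (x ^^^ y) :=
    fun x y hx hy => ofN_add ⟨x, hx⟩ ⟨y, hy⟩
  have hx : ∀ x y : ℕ, x < 4 → y < 4 → x ^^^ y < 4 := fun x y hx hy =>
    Nat.xor_lt_two_pow (n := 2) hx hy
  simp only [Fin.val_zero, Fin.val_one, Fin.val_two, show ((3 : Fin 6) : ℕ) = 3 from rfl,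
    show ((4 : Fin 6) : ℕ) = 4 from rfl, show ((5 : Fin 6) : ℕ) = 5 from rfl]
  rw [hm, hm, hm, hm, hm, hm]
  generalize hf : (fun l => fmul (dig a (6 * i.val + l)) (dig b (6 * l + j.val))) = f
  have hfl : ∀ l, f l < 4 := fun l => hf ▸ hb _ _
  simp only [← hf] at hfl ⊢
  rw [add_assoc, add_assoc, add_assoc, add_assoc, ha _ _ (hfl 4) (hfl 5),
    ha _ _ (hfl 3) (hx _ _ (hfl 4) (hfl 5)), ha _ _ (hfl 2) (hx _ _ (hfl 3) (hx _ _ (hfl 4) (hfl 5))),
    ha _ _ (hfl 1) (hx _ _ (hfl 2) (hx _ _ (hfl 3) (hx _ _ (hfl 4) (hfl 5)))),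
    ha _ _ (hfl 0) (hx _ _ (hfl 1) (hx _ _ (hfl 2) (hx _ _ (hfl 3) (hx _ _ (hfl 4) (hfl 5)))))]
  congr 1
  exact Nat.mod_eq_of_lt (hx _ _ (hfl 0) (hx _ _ (hfl 1) (hx _ _ (hfl 2) (hx _ _ (hfl 3) (hx _ _ (hfl 4) (hfl 5))))))

/-- The code of the identity. -/
def oneC : ℕ := pack 36 fun k => if k / 6 = k % 6 then 1 else 0

theorem dec_oneC : dec oneC = 1 := by decide +kernel

/-- The code of a product of matrices with given codes. -/
def prodC (l : List ℕ) : ℕ := l.foldr mulC oneC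

theorem dec_prodC : ∀ l : List ℕ, dec (prodC l) = (l.map dec).prod
  | [] => dec_oneC
  | a :: l => by
    rw [List.map_cons, List.prod_cons, ← dec_prodC l, ← dec_mulC]
    rfl

/-- The code of a root element. -/
def rootC (p : ℕ × ℕ) : ℕ :=
  pack 36 fun k =>
    let ent := entTable.getD p.1 []
    (if (k / 6, k % 6, 1) ∈ ent then p.2 else if (k / 6, k % 6, 2) ∈ ent then fmul p.2 p.2
      else if k / 6 = k % 6 then 1 else 0) % 4

theorem dec_rootC : ∀ r : Fin 12, ∀ t : Fin 4,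
    dec (rootC (r.val, t.val)) = a6 (r, ⟨t⟩) := by decide +kernel

end CfsgLib.Icosian.Six
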