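import Mathlib
import Cfsg.Agent.Lib.Icosian.Model
import Cfsg.Agent.Lib.Icosian.SixMat
import Cfsg.Agent.Lib.Icosian.SixData

/-!
The reduction of the icosian lattice modulo two as a six dimensional representation of the
Hall-Janko group over four elements.
-/

set_option autoImplicit false
set_option maxRecDepth 100000

noncomputable section

namespace CfsgLib.Icosian.Six

open Matrix
open CfsgLib.Recognition.G2Four (F4 V6)
open Cfsg.Spor (twoJ2 qip qrefl icosians)

theorem f4_two : ∀ a : Fin 4, (⟨a⟩ : F4) + ⟨a⟩ = 0 := by decide +kernel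

theorem f4_add_self (x : F4) : x + x = 0 := f4_two x.v

/-- The image of τ. -/
def T : F4 := ⟨3⟩

theorem T_sq : T * T = T + 1 := by decide +kernel

/-- Reduction of an element of ℤ[τ]. -/
def cz (x : ZT) : F4 := (x.a : F4) + (x.b : F4) * T

theorem cz_add (x y : ZT) : cz (x + y) = cz x + cz y := by
  simp only [cz, ZT.add_def, Int.cast_add]; ring

theorem cz_sub (x y : ZT) : cz (x - y) = cz x + cz y := by
  simp only [cz, ZT.sub_def, Int.cast_sub]
  linear_combination (-(1 : F4)) * f4_add_self ((y.a : F4) + (y.b : F4) * T)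

theorem cz_mul (x y : ZT) : cz (x * y) = cz x * cz y := by
  simp only [cz, ZT.mul_def, Int.cast_add, Int.cast_mul]
  linear_combination (-((x.b : F4) * (y.b : F4))) * T_sq

theorem cz_s : cz ZT.s = T + 1 := by decide +kernel

theorem cz_zero : cz 0 = 0 := by decide +kernel

/-- The first entry of the reduced two by two matrix of an icosian. -/
def p00 (x : Ico) : F4 := cz x.a + cz x.b + T * cz x.d
/-- The second entry. -/
def p01 (x : Ico) : F4 := cz x.b + (T + 1) * cz x.c + T * cz x.d
/-- The third entry. -/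
def p10 (x : Ico) : F4 := T * cz x.c + T * cz x.d
/-- The fourth entry. -/
def p11 (x : Ico) : F4 := cz x.a + cz x.b + cz x.c + cz x.d

/-- The reduction of an icosian. -/
def phi (x : Ico) : Matrix (Fin 2) (Fin 2) F4 := !![p00 x, p01 x; p10 x, p11 x]

theorem phi_add (x y : Ico) : phi (x + y) = phi x + phi y := by
  refine Matrix.ext fun i j => ?_
  fin_cases i <;> fin_cases j <;>
    simp [phi, p00, p01, p10, p11, Ico.add_def, cz_add] <;> ring

theorem phi_double (x : Ico) : phi (x + x) = 0 := by
  rw [phi_add]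
  exact Matrix.ext fun i j => f4_add_self _

theorem phi_mul (x y : Ico) : phi (x * y) = phi x * phi y := by
  refine Matrix.ext fun i j => ?_
  have h := T_sq
  have h2 : (2 : F4) = 0 := by decide +kernel
  fin_cases i <;> fin_cases j <;>
    simp [phi, p00, p01, p10, p11, Ico.mul_def, cz_add, cz_sub, cz_mul, cz_s, Matrix.mul_apply,
      Fin.sum_univ_two] <;> grind

theorem phi_neg (x : Ico) : phi (-x) = phi x := by
  have hx : -x + x = 0 := by
    ext <;> simp [Ico.add_def, Ico.neg_def, Ico.zero_def, ZT.add_def, ZT.neg_def, ZT.zero_def]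
  have h := congrArg phi hx
  rw [phi_add, show phi 0 = 0 by decide +kernel] at h
  rw [eq_neg_of_add_eq_zero_left h]
  exact Matrix.ext fun i j => neg_eq_of_add_eq_zero_left (f4_add_self _)

/-- The coordinate vector of a lattice point. -/
def vecOf (x : Pt) : Vec := (exists_vec x.2).choose

theorem vecOf_inL (x : Pt) : (vecOf x).inL = true := (exists_vec x.2).choose_spec.1

theorem vecOf_toV (x : Pt) : (vecOf x).toV = (x : QV) := (exists_vec x.2).choose_spec.2

/-- Half of a Hermitian product. -/
def hp (v w : Vec) : Ico := Ico.half (Vec.ip v w)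

theorem hp_add_self {v w : Vec} (hv : v.inL = true) (hw : w.inL = true) :
    hp v w + hp v w = Vec.ip v w := by
  obtain ⟨a, ha, e⟩ := qip_mem_two_icosians (toV_mem hv) (toV_mem hw)
  obtain ⟨a, rfl⟩ := mem_icosians.1 ha
  rw [Vec.qip_toV, mul_two, ← Ico.toH_add] at e
  have e' : Vec.ip v w = a + a := Ico.toH_injective e
  rw [hp, e', Ico.half_add_self]

theorem qip_hp {v w : Vec} (hv : v.inL = true) (hw : w.inL = true) :
    qip v.toV w.toV = (hp v w).toH + (hp v w).toH := by
  rw [Vec.qip_toV, ← Ico.toH_add, hp_add_self hv hw]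

/-- The vectors defining the coordinates. -/
def bV (j : Fin 3) : Vec := rep (bIdx.getD j 0 % 315)

theorem bV_inL (j : Fin 3) : (bV j).inL = true := rep_inL ⟨_, Nat.mod_lt _ (by norm_num)⟩

/-- The coefficients of the certificates. -/
def coefV (k : Fin 4) (j l : Fin 3) : Ico := Ico.dec (((coefCodes.getD k []).getD j []).getD l 0)

/-- The remainders of the certificates. -/
def restV (k : Fin 4) (j : Fin 3) : Vec := Vec.dec ((restCodes.getD k []).getD j 0)

theorem cert_ok : ∀ k : Fin 4, ∀ j : Fin 3, (restV k j).inL = true ∧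
    Vec.refl (rep (gIdx k)) (bV j) =
      (⟨(coefV k j 0 * (bV 0).x + coefV k j 1 * (bV 1).x + coefV k j 2 * (bV 2).x) +
          ((restV k j).x + (restV k j).x),
        (coefV k j 0 * (bV 0).y + coefV k j 1 * (bV 1).y + coefV k j 2 * (bV 2).y) +
          ((restV k j).y + (restV k j).y),
        (coefV k j 0 * (bV 0).z + coefV k j 1 * (bV 1).z + coefV k j 2 * (bV 2).z) +
          ((restV k j).z + (restV k j).z)⟩ : Vec) := by
  decide +kernel

theorem hp_step (k : Fin 4) (j : Fin 3) {v w : Vec} (hv : v.inL = true) (hw : w.inL = true)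
    (hwv : w.toV = qrefl (rep (gIdx k)).toV v.toV) :
    hp w (bV j) = hp v (bV 0) * (coefV k j 0).conj + hp v (bV 1) * (coefV k j 1).conj +
      hp v (bV 2) * (coefV k j 2).conj + (hp v (restV k j) + hp v (restV k j)) := by
  obtain ⟨hd, he⟩ := cert_ok k j
  have h2 : (qip w.toV (bV j).toV) = qip v.toV (Vec.refl (rep (gIdx k)) (bV j)).toV := by
    rw [hwv, qrefl_adjoint, qrefl_toV (rep_inL _) (bV_inL j)]
  rw [qip_hp hw (bV_inL j), he] at h2
  have e : qip v.toV (⟨(coefV k j 0 * (bV 0).x + coefV k j 1 * (bV 1).x + coefV k j 2 * (bV 2).x) +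
          ((restV k j).x + (restV k j).x),
        (coefV k j 0 * (bV 0).y + coefV k j 1 * (bV 1).y + coefV k j 2 * (bV 2).y) +
          ((restV k j).y + (restV k j).y),
        (coefV k j 0 * (bV 0).z + coefV k j 1 * (bV 1).z + coefV k j 2 * (bV 2).z) +
          ((restV k j).z + (restV k j).z)⟩ : Vec).toV =
      qip v.toV (bV 0).toV * star (coefV k j 0).toH + qip v.toV (bV 1).toV * star (coefV k j 1).toH +
      qip v.toV (bV 2).toV * star (coefV k j 2).toH + (qip v.toV (restV k j).toV + qip v.toV (restV k j).toV) := by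
    simp only [qip, Fin.sum_univ_three, Vec.toV, Matrix.cons_val_zero, Matrix.cons_val_one,
      Matrix.cons_val_two, Matrix.tail_cons, Matrix.head_cons, Ico.toH_add, Ico.toH_mul, star_add, star_mul]
    noncomm_ring
  rw [e, qip_hp hv (bV_inL 0), qip_hp hv (bV_inL 1), qip_hp hv (bV_inL 2), qip_hp hv hd] at h2
  have key : hp w (bV j) + hp w (bV j) =
      (hp v (bV 0) * (coefV k j 0).conj + hp v (bV 1) * (coefV k j 1).conj +
        hp v (bV 2) * (coefV k j 2).conj + (hp v (restV k j) + hp v (restV k j))) +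
      (hp v (bV 0) * (coefV k j 0).conj + hp v (bV 1) * (coefV k j 1).conj +
        hp v (bV 2) * (coefV k j 2).conj + (hp v (restV k j) + hp v (restV k j))) := by
    refine Ico.toH_injective ?_
    simp only [Ico.toH_add, Ico.toH_mul, Ico.toH_conj]
    rw [h2]
    noncomm_ring
  have := congrArg Ico.half key
  rwa [Ico.half_add_self, Ico.half_add_self] at this

/-- The change of coordinates. -/
def chg : M6 := dec chgCode

/-- Coordinates before the change. -/
def rawOf (v : Vec) : V6 := fun r =>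
  phi (hp v (bV ⟨r.val / 2, by omega⟩)) 0 ⟨r.val % 2, Nat.mod_lt _ (by norm_num)⟩

/-- The reduction map. -/
def piMap (x : Pt) : V6 := chg *ᵥ rawOf (vecOf x)

/-- The raw matrix of a generator. -/
def rawMat (k : Fin 4) : M6 := Matrix.of fun r s =>
  phi (coefV k ⟨r.val / 2, by omega⟩ ⟨s.val / 2, by omega⟩).conj ⟨s.val % 2, Nat.mod_lt _ (by norm_num)⟩
    ⟨r.val % 2, Nat.mod_lt _ (by norm_num)⟩

/-- The matrix of a generator. -/
def genMat (k : Fin 4) : M6 := dec (genMats.getD k 0)

theorem genMat_eq : ∀ k : Fin 4, chg * rawMat k = genMat k * chg := by decide +kernel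

theorem rawOf_step (k : Fin 4) {v w : Vec} (hv : v.inL = true) (hw : w.inL = true)
    (hwv : w.toV = qrefl (rep (gIdx k)).toV v.toV) : rawOf w = rawMat k *ᵥ rawOf v := by
  funext r
  rw [rawOf, hp_step k _ hv hw hwv, phi_add, phi_add, phi_add, phi_double, add_zero, phi_mul, phi_mul,
    phi_mul]
  fin_cases r <;>
    simp [Matrix.mulVec, dotProduct, Fin.sum_univ_six, Matrix.mul_apply, Fin.sum_univ_two, rawMat, rawOf] <;>
    ring

theorem piMap_gen (k : Fin 4) (x : Pt) : piMap (gen k x) = genMat k *ᵥ piMap x := by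
  have h := rawOf_step k (vecOf_inL x) (vecOf_inL (gen k x))
    (by rw [vecOf_toV, vecOf_toV]; exact reflP_apply _ (qip_repPt _) x)
  rw [piMap, piMap, h, Matrix.mulVec_mulVec, Matrix.mulVec_mulVec, genMat_eq]

theorem genMat_sq : ∀ k : Fin 4, genMat k * genMat k = 1 := by decide +kernel

/-- The matrix of a generator, invertible. -/
def genGL (k : Fin 4) : GL (Fin 6) F4 := ⟨genMat k, genMat k, genMat_sq k, genMat_sq k⟩

theorem exists_mat {g : Equiv.Perm Pt} (hg : g ∈ twoJ2) :
    ∃ M ∈ Subgroup.closure (Set.range genGL), ∀ x, piMap (g x) = (M : M6) *ᵥ piMap x := by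
  rw [twoJ2_eq] at hg
  induction hg using Subgroup.closure_induction with
  | mem g h =>
    obtain ⟨k, rfl⟩ := h
    exact ⟨genGL k, Subgroup.subset_closure ⟨k, rfl⟩, piMap_gen k⟩
  | one => exact ⟨1, one_mem _, fun x => by simp⟩
  | mul a b _ _ iha ihb =>
    obtain ⟨A, hA, eA⟩ := iha
    obtain ⟨B, hB, eB⟩ := ihb
    exact ⟨A * B, mul_mem hA hB, fun x => by
      rw [Equiv.Perm.mul_apply, eA, eB, Matrix.mulVec_mulVec, Units.val_mul]⟩
  | inv a _ ih =>
    obtain ⟨A, hA, eA⟩ := ih
    refine ⟨A⁻¹, inv_mem hA, fun x => ?_⟩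
    have h := eA (a⁻¹ x)
    rw [← Equiv.Perm.mul_apply, mul_inv_cancel, Equiv.Perm.one_apply] at h
    rw [h, Matrix.mulVec_mulVec, Units.inv_mul, Matrix.one_mulVec]

/-- The spanning points. -/
def spanIdxF (c : Fin 6) : Fin 315 := ⟨spanIdx.getD c 0 % 315, Nat.mod_lt _ (by norm_num)⟩

theorem span_table : ∀ c : Fin 6,
    chg *ᵥ rawOf (rep (spanIdxF c)) = fun r => dec spanMat r c := by decide +kernel

theorem span_inv : dec spanMat * dec spanInv = 1 := by decide +kernel

theorem mat_unique {A B : M6} (h : ∀ x, A *ᵥ piMap x = B *ᵥ piMap x) : A = B := by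
  have e : ∀ c, piMap (repPt (spanIdxF c)) = fun r => dec spanMat r c := by
    intro c
    rw [piMap, show vecOf (repPt (spanIdxF c)) = rep (spanIdxF c) from
      Vec.toV_injective (vecOf_toV _), span_table]
  have h2 : A * dec spanMat = B * dec spanMat := by
    refine Matrix.ext fun r c => ?_
    have h' := congrFun (h (repPt (spanIdxF c))) r
    rw [e] at h'
    exact h'
  calc A = A * (dec spanMat * dec spanInv) := by rw [span_inv, mul_one]
    _ = B * (dec spanMat * dec spanInv) := by rw [← mul_assoc, h2, mul_assoc]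
    _ = B := by rw [span_inv, mul_one]

/-- The matrix of an element of the reflection group. -/
def matOf (g : twoJ2) : GL (Fin 6) F4 := (exists_mat g.2).choose

theorem matOf_mem (g : twoJ2) : matOf g ∈ Subgroup.closure (Set.range genGL) :=
  (exists_mat g.2).choose_spec.1

theorem matOf_spec (g : twoJ2) (x : Pt) : piMap ((g : Equiv.Perm Pt) x) = (matOf g : M6) *ᵥ piMap x :=
  (exists_mat g.2).choose_spec.2 x

/-- The representation of the reflection group. -/
def twoRep : twoJ2 →* GL (Fin 6) F4 :=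
  MonoidHom.mk' matOf fun a b => Units.ext <| mat_unique fun x => by
    rw [Units.val_mul, ← Matrix.mulVec_mulVec, ← matOf_spec b, ← matOf_spec a, ← matOf_spec (a * b)]
    rfl

theorem twoRep_gen (k : Fin 4) (h : gen k ∈ twoJ2) : twoRep ⟨gen k, h⟩ = genGL k :=
  Units.ext (mat_unique fun x => (matOf_spec ⟨gen k, h⟩ x).symm.trans (piMap_gen k x))

theorem twoRep_center (g : twoJ2) (hg : g ∈ Subgroup.center twoJ2) : twoRep g = 1 := by
  rcases (center_iff g).1 hg with rfl | h
  · exact map_one twoRep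
  refine Units.ext (mat_unique fun x => ?_)
  rw [Units.val_one, Matrix.one_mulVec]
  refine (matOf_spec g x).symm.trans ?_
  rw [h, piMap, piMap]
  congr 1
  have hneg : ∀ w : Vec, (⟨-w.x, -w.y, -w.z⟩ : Vec).toV = -w.toV := fun w => by
    funext t; fin_cases t <;> simp [Vec.toV]
  have hv : vecOf (negP x) = ⟨-(vecOf x).x, -(vecOf x).y, -(vecOf x).z⟩ :=
    Vec.toV_injective (by rw [hneg, vecOf_toV, vecOf_toV]; rfl)
  funext r
  simp only [rawOf]
  set j : Fin 3 := ⟨r.val / 2, by omega⟩
  have e : hp (vecOf (negP x)) (bV j) = -hp (vecOf x) (bV j) := by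
    have k1 : hp (vecOf (negP x)) (bV j) + hp (vecOf (negP x)) (bV j) =
        -hp (vecOf x) (bV j) + -hp (vecOf x) (bV j) := by
      refine Ico.toH_injective ?_
      rw [hp_add_self (vecOf_inL _) (bV_inL j), Ico.toH_add, Ico.toH_neg, ← neg_add,
        ← Ico.toH_add, hp_add_self (vecOf_inL _) (bV_inL j), ← Vec.qip_toV, ← Vec.qip_toV, hv, hneg]
      simp [qip]
    have := congrArg Ico.half k1
    rwa [Ico.half_add_self, Ico.half_add_self] at this
  rw [e, phi_neg]

/-- The representation of the Hall-Janko group. -/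
def rep6 : Cfsg.Spor.J2 →* GL (Fin 6) F4 :=
  QuotientGroup.lift (Subgroup.center twoJ2) twoRep fun g hg => twoRep_center g hg

theorem rep6_gen (k : Fin 4) (h : gen k ∈ twoJ2) :
    rep6 ((⟨gen k, h⟩ : twoJ2) : Cfsg.Spor.J2) = genGL k := twoRep_gen k h

theorem rep6_injective : Function.Injective rep6 := by
  have := isSimple_J2
  rcases this.eq_bot_or_eq_top_of_normal rep6.ker inferInstance with h | h
  · exact (MonoidHom.ker_eq_bot_iff _).1 h
  · exfalso
    have hk : gen 0 ∈ twoJ2 := twoJ2_eq ▸ Subgroup.subset_closure (Set.mem_range_self 0)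
    have h1 : rep6 ((⟨gen 0, hk⟩ : twoJ2) : Cfsg.Spor.J2) = 1 := MonoidHom.mem_ker.1 (h ▸ Subgroup.mem_top _)
    rw [rep6_gen] at h1
    have h2 : genMat 0 = 1 := congrArg Units.val h1
    exact absurd h2 (by decide +kernel)

end CfsgLib.Icosian.Six
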