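import Mathlib
import Cfsg.Agent.Lib.Sporadic.HallJanko
import Cfsg.Agent.Lib.Recognition.PSU33.Model
import Cfsg.Agent.Lib.Icosian.UnitaryData

/-!
Certificates matching the point stabiliser on a hundred points with SU(3,3).
-/

set_option autoImplicit false
set_option maxRecDepth 100000

noncomputable section

namespace CfsgLib.Icosian.Unitary

open CfsgLib.Sporadic CfsgLib.Sporadic.PermCode
open CfsgLib.Recognition.PSU33.Model CfsgLib.Recog.SU33

/-- A matrix from a number with eighteen ternary digits. -/
def matDec (c : ℕ) : Matrix (Fin 3) (Fin 3) F9 :=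
  let e : ℕ → F9 := fun i => ⟨((c / 3 ^ (2 * i) % 3 : ℕ) : ZMod 3), ((c / 3 ^ (2 * i + 1) % 3 : ℕ) : ZMod 3)⟩
  !![e 0, e 1, e 2; e 3, e 4, e 5; e 6, e 7, e 8]

/-- A generator code in the point stabiliser. -/
def kc (j : ℕ) : ℕ := HallJanko.kGens.getD j HallJanko.one

/-- A point of the orbit of size 63. -/
def op (i : ℕ) : ℕ := orbPts.getD i 0

/-- Images in the orbit. -/
def oim (j i : ℕ) : ℕ := (orbImg.getD j []).getD i 0

/-- A generator of the matrix group. -/
def gMat (j : ℕ) : Matrix (Fin 3) (Fin 3) F9 := matDec (gCodes.getD j 0)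

/-- An involution of the matrix group. -/
def iMat (i : ℕ) : Matrix (Fin 3) (Fin 3) F9 := matDec (invMatCodes.getD i 0)

/-- Adjacency. -/
def adjB (x y : ℕ) : Bool := Nat.testBit (adjMasks.getD x 0) y

theorem gMat_good : ∀ j : Fin 2, gMat j ∈ goodMonoid := by decide +kernel

theorem iMat_good : ∀ i : Fin 63, iMat i ∈ goodMonoid := by decide +kernel

theorem conj_mats : ∀ j : Fin 2, ∀ i : Fin 63, gMat j * iMat i = iMat (oim j i % 63) * gMat j := by
  decide +kernel

theorem invMat_nodup : invMatCodes.Nodup ∧ invMatCodes.length = 63 ∧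
    invMatCodes.all (fun c => Nat.blt c (3 ^ 18)) = true := by decide +kernel

theorem op_nodup : orbPts.Nodup ∧ orbPts.length = 63 ∧ orbPts.all (fun p => Nat.blt p 100) = true := by
  decide +kernel

theorem op_img : ∀ j : Fin 2, ∀ i : Fin 63, img (kc j) (op i) = op (oim j i % 63) := by decide +kernel

theorem adj_img : (List.range 2).all (fun j => (List.range 100).all fun x => (List.range 100).all fun y =>
    adjB x y == adjB (img (kc j) x) (img (kc j) y)) = true := by
  decide +kernel

theorem rows_distinct :
    ((List.range 100).map fun x => orbPts.map fun o => adjB x o).Nodup := by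
  decide +kernel

theorem row_zero :
    ((List.range 100).filter fun q => adjB 0 q).length = 36 ∧
    ((List.range 100).filter fun q => q != 0 && !adjB 0 q).length = 63 ∧
    adjB 0 HallJanko.ptP = true ∧ adjB 0 HallJanko.ptR = false := by
  decide +kernel

end CfsgLib.Icosian.Unitary
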