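import Mathlib
import Cfsg.Agent.Lib.Icosian.Model
import Cfsg.Agent.Lib.Icosian.UnitaryCheck
import Cfsg.Agent.Lib.Recognition.PSU33.Instance

/-!
The subgroup of index 100 of the Hall-Janko group is PSU(3,3), with subdegrees 1, 36, 63.
-/

set_option autoImplicit false
set_option maxRecDepth 100000

noncomputable section

namespace CfsgLib.Icosian.Unitary

open CfsgLib.Sporadic CfsgLib.Sporadic.PermCode
open CfsgLib.Recognition.PSU33 CfsgLib.Recognition.PSU33.Model CfsgLib.Recog.SU33

/-- A point. -/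
abbrev P100 : Type := HallJanko.Pt

theorem kGens_code (j : Fin 2) : kc j ∈ HallJanko.kGens := by
  have h : HallJanko.kGens.length = 2 := by decide +kernel
  rw [kc, List.getD_eq_getElem _ _ (show (j : ℕ) < HallJanko.kGens.length by rw [h]; exact j.2)]
  exact List.getElem_mem _

theorem kGens_cases {c : ℕ} (hc : c ∈ HallJanko.kGens) : ∃ j : Fin 2, c = kc j := by
  have h : HallJanko.kGens = [kc 0, kc 1] := by decide +kernel
  rw [h] at hc
  simp only [List.mem_cons, List.not_mem_nil, or_false] at hc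
  rcases hc with rfl | rfl
  exacts [⟨0, rfl⟩, ⟨1, rfl⟩]

/-- A point of the orbit. -/
def opF (i : Fin 63) : P100 := ⟨op i % 100, Nat.mod_lt _ (by norm_num)⟩

theorem op_lt (i : Fin 63) : op i < 100 := by
  have h : (i : ℕ) < orbPts.length := by rw [op_nodup.2.1]; exact i.2
  rw [op, List.getD_eq_getElem _ _ h]
  exact Nat.blt_eq.mp (List.all_eq_true.1 op_nodup.2.2 _ (List.getElem_mem h))

theorem opF_val (i : Fin 63) : (opF i : ℕ) = op i := Nat.mod_eq_of_lt (op_lt i)

theorem opF_injective : Function.Injective opF := by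
  intro i j h
  have e : op i = op j := by rw [← opF_val, ← opF_val, h]
  have hi : (i : ℕ) < orbPts.length := by rw [op_nodup.2.1]; exact i.2
  have hj : (j : ℕ) < orbPts.length := by rw [op_nodup.2.1]; exact j.2
  rw [op, op, List.getD_eq_getElem _ _ hi, List.getD_eq_getElem _ _ hj] at e
  exact Fin.ext ((List.Nodup.getElem_inj_iff op_nodup.1).1 e)

/-- An image index. -/
def oimF (j : Fin 2) (i : Fin 63) : Fin 63 := ⟨oim j i % 63, Nat.mod_lt _ (by norm_num)⟩

theorem gen_opF {g : Equiv.Perm P100} {j : Fin 2} (hg : emb g = dec (kc j)) (i : Fin 63) :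
    g (opF i) = opF (oimF j i) := by
  refine Fin.ext ?_
  rw [apply_eq hg, opF_val, opF_val, oimF]
  exact op_img j i

theorem exists_phi : ∃ φ : HallJanko.kGrp →* Equiv.Perm (Fin 63),
    ∀ g i, opF (φ g i) = (g : Equiv.Perm P100) (opF i) :=
  exists_indexHom (A := MonoidHom.id (Equiv.Perm P100)) opF_injective
    (S := genSet emb dec HallJanko.kGens) le_rfl (by
      rintro g ⟨c, hc, hg⟩ i
      obtain ⟨j, rfl⟩ := kGens_cases hc
      exact ⟨oimF j i, gen_opF hg i⟩)

/-- The action on the orbit of size 63. -/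
def phi : HallJanko.kGrp →* Equiv.Perm (Fin 63) := exists_phi.choose

theorem phi_spec (g : HallJanko.kGrp) (i : Fin 63) : opF (phi g i) = (g : Equiv.Perm P100) (opF i) :=
  exists_phi.choose_spec g i

theorem adj_inv {g : Equiv.Perm P100} (hg : g ∈ HallJanko.kGrp) :
    ∀ x y : P100, adjB (g x) (g y) = adjB x y := by
  induction hg using Subgroup.closure_induction with
  | mem g h =>
    obtain ⟨c, hc, hg⟩ := h
    obtain ⟨j, rfl⟩ := kGens_cases hc
    intro x y
    have h' := List.all_eq_true.1 (List.all_eq_true.1 (List.all_eq_true.1 adj_img j (List.mem_range.2 j.2))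
      x (List.mem_range.2 x.2)) y (List.mem_range.2 y.2)
    rw [apply_eq hg, apply_eq hg]
    exact (beq_iff_eq.1 h').symm
  | one => exact fun _ _ => rfl
  | mul a b _ _ iha ihb => exact fun x y => (iha _ _).trans (ihb x y)
  | inv a _ ih =>
    intro x y
    have e := ih (a⁻¹ x) (a⁻¹ y)
    rw [← Equiv.Perm.mul_apply, ← Equiv.Perm.mul_apply, mul_inv_cancel] at e
    exact e.symm

theorem phi_injective : Function.Injective phi := by
  rw [injective_iff_map_eq_one]
  intro g hg
  refine Subtype.ext (Equiv.ext fun x => Fin.ext ?_)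
  refine List.inj_on_of_nodup_map rows_distinct (List.mem_range.2 ((g : Equiv.Perm P100) x).2)
    (List.mem_range.2 x.2) (List.map_congr_left fun o ho => ?_)
  obtain ⟨i, hi, rfl⟩ := List.getElem_of_mem ho
  have hi' : i < 63 := op_nodup.2.1 ▸ hi
  have e : (g : Equiv.Perm P100) (opF ⟨i, hi'⟩) = opF ⟨i, hi'⟩ := by rw [← phi_spec, hg]; rfl
  have key := adj_inv g.2 x (opF ⟨i, hi'⟩)
  rw [e, opF_val, op, List.getD_eq_getElem _ _ hi] at key
  exact key

/-- A matrix generator. -/
def gG (j : Fin 2) : Good := ⟨gMat j, gMat_good j⟩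

/-- An involution of the matrix group. -/
def invG (i : Fin 63) : Good := ⟨iMat i, iMat_good i⟩

theorem iMat_injective : ∀ i j : Fin 63, iMat i = iMat j → i = j := by decide +kernel

theorem invG_injective : Function.Injective invG := fun i j h =>
  iMat_injective i j (congrArg Subtype.val h)

theorem conj_invG (j : Fin 2) (i : Fin 63) : gG j * invG i * (gG j)⁻¹ = invG (oimF j i) :=
  mul_inv_eq_iff_eq_mul.2 (Subtype.ext (conj_mats j i))

/-- The field with nine elements. -/
abbrev F : Type := GaloisField 3 2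

instance instFintypeF9 : Fintype F := Fintype.ofFinite _

theorem card_F : Fintype.card F = 9 := by
  rw [← Nat.card_eq_fintype_card, GaloisField.card 3 2 (by norm_num)]; norm_num

theorem equiv_of_ranges {K G P : Type*} [Group K] [Group G] [Group P] [Finite G] (φ : K →* P)
    (hφ : Function.Injective φ) {S : Subgroup G} (χ : S →* P) (hsub : φ.range ≤ χ.range)
    (hcard : Nat.card G ≤ Nat.card K) : Nonempty (K ≃* G) := by
  have : Finite χ.range := Finite.of_surjective _ χ.rangeRestrict_surjective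
  have h1 : Nat.card φ.range = Nat.card K := (Nat.card_congr (MonoidHom.ofInjective hφ).toEquiv).symm
  have h2 : Nat.card φ.range ≤ Nat.card χ.range := Subgroup.card_le_of_le hsub
  have h3 : Nat.card χ.range ≤ Nat.card S :=
    Nat.card_le_card_of_surjective _ χ.rangeRestrict_surjective
  have h4 : Nat.card S ≤ Nat.card G := Subgroup.card_le_card_group _
  have hχinj : Function.Injective χ := by
    have hb := (Nat.bijective_iff_surjective_and_card χ.rangeRestrict).2
      ⟨χ.rangeRestrict_surjective, by omega⟩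
    exact fun a b h => hb.1 (Subtype.ext h)
  have heq : φ.range = χ.range := Subgroup.eq_of_le_of_card_ge hsub (by omega)
  have htop : S = ⊤ := Subgroup.eq_top_of_card_eq _ (by omega)
  exact ⟨(MonoidHom.ofInjective hφ).trans <| (MulEquiv.subgroupCongr heq).trans <|
    (MonoidHom.ofInjective hχinj).symm.trans <| (MulEquiv.subgroupCongr htop).trans Subgroup.topEquiv⟩

theorem nonempty_equiv : Nonempty (HallJanko.kGrp ≃* Cfsg.PSU 3 F 3) := by
  obtain ⟨ι, hι⟩ := exists_hom card_F
  have hinj : Function.Injective (toSU ι) := toSU_injective ι hι.1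
  have : Finite Good := Finite.of_injective _ hinj
  have hGood : Nat.card Good ≤ 6048 := card_SU33 card_F ▸ Nat.card_le_card_of_injective _ hinj
  obtain ⟨χ, hχ⟩ := exists_indexHom (A := conjPerm Good) invG_injective
    (S := Set.range gG) (H := Subgroup.closure (Set.range gG)) le_rfl
    (by rintro _ ⟨j, rfl⟩ i; exact ⟨oimF j i, conj_invG j i⟩)
  have hsub : phi.range ≤ χ.range := by
    rintro _ ⟨⟨k, hk⟩, rfl⟩
    induction hk using Subgroup.closure_induction with
    | mem k h =>
      obtain ⟨c, hc, hg⟩ := h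
      obtain ⟨j, rfl⟩ := kGens_cases hc
      have hm : gG j ∈ Subgroup.closure (Set.range gG) := Subgroup.subset_closure (Set.mem_range_self j)
      refine ⟨⟨gG j, hm⟩, Equiv.ext fun i => ?_⟩
      have e1 : invG (χ ⟨gG j, hm⟩ i) = invG (oimF j i) := by
        rw [hχ, conjPerm_apply]
        exact conj_invG j i
      rw [invG_injective e1]
      have e2 := phi_spec ⟨k, Subgroup.subset_closure ⟨kc j, hc, hg⟩⟩ i
      rw [show ((⟨k, Subgroup.subset_closure ⟨kc j, hc, hg⟩⟩ : HallJanko.kGrp) : Equiv.Perm P100) = k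
        from rfl, gen_opF hg i] at e2
      exact (opF_injective e2).symm
    | one => exact (map_one phi).symm ▸ one_mem _
    | mul a b ha hb iha ihb =>
      rw [show (⟨a * b, mul_mem ha hb⟩ : HallJanko.kGrp) = ⟨a, ha⟩ * ⟨b, hb⟩ from rfl, map_mul]
      exact mul_mem iha ihb
    | inv a ha ih =>
      rw [show (⟨a⁻¹, inv_mem ha⟩ : HallJanko.kGrp) = (⟨a, ha⟩ : HallJanko.kGrp)⁻¹ from rfl, map_inv]
      exact inv_mem ih
  obtain ⟨e⟩ := equiv_of_ranges phi phi_injective χ hsub
    (le_of_le_of_eq hGood HallJanko.card_kGrp.symm)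
  have hbij : Function.Bijective (toSU ι) :=
    (Nat.bijective_iff_injective_and_card _).2 ⟨hinj, by
      rw [card_SU33 card_F, ← HallJanko.card_kGrp]; exact (Nat.card_congr e.toEquiv).symm⟩
  exact ⟨e.trans ((MulEquiv.ofBijective (toSU ι) hbij).trans (psuEquivSU ι).symm)⟩

/-- The subgroup of index 100. -/
def HK : Subgroup Cfsg.Spor.J2 := (HallJanko.kGrp.subgroupOf HallJanko.grp).comap toHJ.toMonoidHom

theorem nonempty_HK : Nonempty (HK ≃* Cfsg.PSU 3 F 3) := by
  obtain ⟨e⟩ := nonempty_equiv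
  let e' : HK ≃* HallJanko.kGrp.subgroupOf HallJanko.grp :=
    { toFun := fun h => ⟨toHJ h.1, h.2⟩
      invFun := fun k => ⟨toHJ.symm k.1, by
        show toHJ (toHJ.symm k.1) ∈ HallJanko.kGrp.subgroupOf HallJanko.grp
        rw [MulEquiv.apply_symm_apply]; exact k.2⟩
      left_inv := fun h => Subtype.ext (toHJ.symm_apply_apply _)
      right_inv := fun k => Subtype.ext (toHJ.apply_symm_apply _)
      map_mul' := fun a b => Subtype.ext (map_mul toHJ _ _) }
  exact ⟨(e'.trans (Subgroup.subgroupOfEquivOfLe HallJanko.kGrp_le)).trans e⟩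

theorem index_HK : HK.index = 100 := by
  rw [HK, Subgroup.index_comap_of_surjective _ (MulEquiv.surjective _)]
  have h := (HallJanko.kGrp.subgroupOf HallJanko.grp).card_mul_index
  rw [Nat.card_congr (Subgroup.subgroupOfEquivOfLe HallJanko.kGrp_le).toEquiv, HallJanko.card_kGrp,
    HallJanko.card_grp] at h
  omega

theorem stabilizer_zero : MulAction.stabilizer HallJanko.grp (0 : P100) =
    HallJanko.kGrp.subgroupOf HallJanko.grp := by
  refine (Subgroup.eq_of_le_of_card_ge (fun g hg => ?_) ?_).symm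
  · exact MulAction.mem_stabilizer_iff.2 (MulAction.mem_stabilizer_iff.1 (HallJanko.kGrp_fix hg))
  · have := HallJanko.pretransitive
    have h := (MulAction.stabilizer HallJanko.grp (0 : P100)).card_mul_index
    rw [MulAction.index_stabilizer, MulAction.orbit_eq_univ, Set.ncard_univ, Nat.card_fin,
      HallJanko.card_grp] at h
    rw [Nat.card_congr (Subgroup.subgroupOfEquivOfLe HallJanko.kGrp_le).toEquiv, HallJanko.card_kGrp]
    omega

/-- Cosets as points. -/
def toPt : Cfsg.Spor.J2 ⧸ HK → P100 :=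
  Quotient.lift (fun x => ((toHJ x : HallJanko.grp) : Equiv.Perm P100) 0) fun a b h => by
    replace h := QuotientGroup.leftRel_apply.mp h
    rw [HK, Subgroup.mem_comap, ← stabilizer_zero] at h
    have h' : ((toHJ (a⁻¹ * b) : HallJanko.grp) : Equiv.Perm P100) 0 = 0 := h
    rw [map_mul, map_inv, Subgroup.coe_mul, Subgroup.coe_inv, Equiv.Perm.mul_apply,
      Equiv.Perm.inv_eq_iff_eq] at h'
    exact h'.symm

theorem toPt_mk (x : Cfsg.Spor.J2) :
    toPt (x : Cfsg.Spor.J2 ⧸ HK) = ((toHJ x : HallJanko.grp) : Equiv.Perm P100) 0 := rfl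

theorem toPt_injective : Function.Injective toPt := by
  intro a b
  induction a using QuotientGroup.induction_on with | _ x => ?_
  induction b using QuotientGroup.induction_on with | _ y => ?_
  intro h
  rw [toPt_mk, toPt_mk] at h
  rw [QuotientGroup.eq, HK, Subgroup.mem_comap, ← stabilizer_zero]
  show ((toHJ (x⁻¹ * y) : HallJanko.grp) : Equiv.Perm P100) 0 = 0
  rw [map_mul, map_inv, Subgroup.coe_mul, Subgroup.coe_inv, Equiv.Perm.mul_apply,
    Equiv.Perm.inv_eq_iff_eq]
  exact h.symm

theorem exists_coset (p : P100) : ∃ c : Cfsg.Spor.J2 ⧸ HK, toPt c = p := by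
  have := HallJanko.pretransitive
  obtain ⟨g, hg⟩ := MulAction.exists_smul_eq HallJanko.grp (0 : P100) p
  refine ⟨QuotientGroup.mk (toHJ.symm g), ?_⟩
  rw [toPt_mk, MulEquiv.apply_symm_apply]
  exact hg

theorem ncard_orbit {c : Cfsg.Spor.J2 ⧸ HK} {p : P100} (h : toPt c = p) :
    (MulAction.orbit HK c).ncard = (MulAction.orbit HallJanko.kGrp p).ncard := by
  rw [← Set.ncard_image_of_injective _ toPt_injective]
  congr 1
  induction c using QuotientGroup.induction_on with | _ x => ?_
  subst h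
  rw [toPt_mk]
  ext q
  constructor
  · rintro ⟨_, ⟨⟨k, hk⟩, rfl⟩, rfl⟩
    refine ⟨⟨(toHJ k : HallJanko.grp).1, hk⟩, ?_⟩
    show (toHJ k).1 ((toHJ x).1 0) = (toHJ (k * x)).1 0
    rw [map_mul]; rfl
  · rintro ⟨⟨k, hk⟩, rfl⟩
    refine ⟨_, ⟨⟨toHJ.symm ⟨k, HallJanko.kGrp_le hk⟩, ?_⟩, rfl⟩, ?_⟩
    · show toHJ (toHJ.symm ⟨k, HallJanko.kGrp_le hk⟩) ∈ HallJanko.kGrp.subgroupOf HallJanko.grp
      rw [MulEquiv.apply_symm_apply]; exact hk
    show (toHJ (toHJ.symm ⟨k, HallJanko.kGrp_le hk⟩ * x)).1 0 = _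
    rw [map_mul, MulEquiv.apply_symm_apply]; rfl

theorem orbit_le {p : P100} {n : ℕ} (P : ℕ → Bool)
    (hP : ((List.range 100).filter P).length = n) (hp : P p = true)
    (hinv : ∀ g ∈ HallJanko.kGrp, ∀ q : P100, P (g q) = P q) :
    (MulAction.orbit HallJanko.kGrp p).ncard ≤ n := by
  refine le_trans (Set.ncard_le_ncard (t := {q : P100 | P q = true}) ?_ (Set.toFinite _)) ?_
  · rintro _ ⟨g, rfl⟩
    exact (hinv g.1 g.2 p).trans hp
  rw [← hP, ← List.toFinset_card_of_nodup (List.Nodup.filter _ List.nodup_range),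
    ← Set.ncard_coe_finset, ← Set.ncard_image_of_injective _ Fin.val_injective]
  refine Set.ncard_le_ncard ?_ (Finset.finite_toSet _)
  rintro _ ⟨q, hq, rfl⟩
  exact List.mem_toFinset.2 (List.mem_filter.2 ⟨List.mem_range.2 q.2, hq⟩)

theorem fix_zero {g : Equiv.Perm P100} (hg : g ∈ HallJanko.kGrp) : g 0 = 0 :=
  MulAction.mem_stabilizer_iff.1 (HallJanko.kGrp_fix hg)

theorem subdegrees : ∃ c₁ c₂ : Cfsg.Spor.J2 ⧸ HK,
    (MulAction.orbit HK c₁).ncard = 36 ∧ (MulAction.orbit HK c₂).ncard = 63 := by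
  obtain ⟨h36, h63, hp, hr⟩ := row_zero
  obtain ⟨c₁, hc₁⟩ := exists_coset ⟨HallJanko.ptP % 100, by decide⟩
  obtain ⟨c₂, hc₂⟩ := exists_coset ⟨HallJanko.ptR % 100, by decide⟩
  refine ⟨c₁, c₂, ?_, ?_⟩
  · rw [ncard_orbit hc₁]
    refine le_antisymm (orbit_le _ h36 hp ?_) ?_
    · intro g hg q
      have h := adj_inv hg 0 q
      rwa [fix_zero hg] at h
    · exact HallJanko.orbit_ge (p := ⟨HallJanko.ptP % 100, by decide⟩) HallJanko.kT_mem (by decide +kernel)
  · rw [ncard_orbit hc₂]
    refine le_antisymm (orbit_le (fun q => q != 0 && !adjB 0 q) h63 ?_ ?_) ?_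
    · show (HallJanko.ptR % 100 != 0 && !adjB 0 (HallJanko.ptR % 100)) = true
      decide +kernel
    · intro g hg q
      have h := adj_inv hg 0 q
      rw [fix_zero hg] at h
      have h0 : ((g q : P100) : ℕ) = 0 ↔ (q : ℕ) = 0 := by
        rw [show (0 : ℕ) = ((0 : P100) : ℕ) from rfl, ← Fin.ext_iff, ← Fin.ext_iff]
        exact ⟨fun e => g.injective (e.trans (fix_zero hg).symm), fun e => e ▸ fix_zero hg⟩
      show (((g q : P100) : ℕ) != 0 && !adjB 0 (g q)) = (((q : ℕ) != 0) && !adjB 0 q)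
      rw [show adjB 0 (g q) = adjB 0 q from h]
      congr 1
      simp only [bne, Bool.not_inj_iff]
      exact Bool.eq_iff_iff.2 (by simpa using h0)
    · exact HallJanko.orbit_ge (p := ⟨HallJanko.ptR % 100, by decide⟩) HallJanko.oT_mem (by decide +kernel)

end CfsgLib.Icosian.Unitary
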