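import Mathlib
import Cfsg.Agent.Lib.Icosian.SixRep
import Cfsg.Agent.Lib.Icosian.Centralizer
import Cfsg.Agent.Lib.Icosian.Unitary

/-!
The Hall-Janko group inside G₂(4), with two elements giving the other suborbits.
-/

set_option autoImplicit false
set_option maxRecDepth 100000

noncomputable section

namespace CfsgLib.Icosian.Six

open CfsgLib.Sporadic
open CfsgLib.Recognition.G2Four (F4 a6 a6GL x14GL grp grp_fst_injective)

/-- The model of G₂(4). -/
abbrev GG : Type := ↥CfsgLib.Recognition.G2Four.grp

/-- The six dimensional matrices. -/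
def fst6 : GG →* GL (Fin 6) F4 := (MonoidHom.fst _ _).comp CfsgLib.Recognition.G2Four.grp.subtype

theorem fst6_injective : Function.Injective fst6 := grp_fst_injective

/-- A root element. -/
def rootEl (p : ℕ × ℕ) : GG :=
  ⟨(a6GL (⟨p.1 % 12, Nat.mod_lt _ (by norm_num)⟩, ⟨⟨p.2 % 4, Nat.mod_lt _ (by norm_num)⟩⟩),
    x14GL (⟨p.1 % 12, Nat.mod_lt _ (by norm_num)⟩, ⟨⟨p.2 % 4, Nat.mod_lt _ (by norm_num)⟩⟩)),
    Subgroup.subset_closure ⟨_, rfl⟩⟩

/-- The code of a root element. -/
def rootCode (p : ℕ × ℕ) : ℕ := rootC (p.1 % 12, p.2 % 4)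

/-- An element with a given code. -/
def HasCode (g : GG) (c : ℕ) : Prop := (fst6 g : M6) = dec c

theorem hasCode_mul {g h : GG} {a b : ℕ} (ha : HasCode g a) (hb : HasCode h b) :
    HasCode (g * h) (mulC a b) := by
  rw [HasCode, map_mul, Units.val_mul, ha, hb, dec_mulC]

theorem hasCode_one : HasCode 1 oneC := by rw [HasCode, map_one, Units.val_one, dec_oneC]

theorem hasCode_eq {g h : GG} {a : ℕ} (ha : HasCode g a) (hb : HasCode h a) : g = h :=
  fst6_injective (Units.ext (ha.trans hb.symm))

theorem hasCode_prod {α : Type} (f : α → GG) (c : α → ℕ) (l : List α)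
    (h : ∀ a ∈ l, HasCode (f a) (c a)) : HasCode (l.map f).prod (prodC (l.map c)) := by
  induction l with
  | nil =>
    rw [List.map_nil, List.map_nil, List.prod_nil, prodC, List.foldr_nil]
    exact hasCode_one
  | cons a l ih =>
    rw [List.map_cons, List.prod_cons, List.map_cons, prodC, List.foldr_cons]
    exact hasCode_mul (h a List.mem_cons_self) (ih fun b hb => h b (List.mem_cons_of_mem _ hb))

theorem hasCode_root (p : ℕ × ℕ) : HasCode (rootEl p) (rootCode p) :=
  (dec_rootC ⟨p.1 % 12, Nat.mod_lt _ (by norm_num)⟩ ⟨p.2 % 4, Nat.mod_lt _ (by norm_num)⟩).symm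

/-- The product of root elements. -/
def rootProd (w : List (ℕ × ℕ)) : GG := (w.map rootEl).prod

/-- The code of the product of root elements. -/
def rootProdC (w : List (ℕ × ℕ)) : ℕ := prodC (w.map rootCode)

theorem hasCode_rootProd (w : List (ℕ × ℕ)) : HasCode (rootProd w) (rootProdC w) :=
  hasCode_prod _ _ w fun p _ => hasCode_root p

/-- A generator as an element of the model. -/
def gGen (k : Fin 4) : GG :=
  ((genXY.getD k []).map fun j => if j = 0 then rootProd wordX else rootProd wordY).prod

/-- The code of the first standard generator. -/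
def codeX : ℕ := 512661606016092642744

/-- The code of the second standard generator. -/
def codeY : ℕ := 799346376486150620853

theorem codeX_eq : rootProdC wordX = codeX := by decide +kernel

theorem codeY_eq : rootProdC wordY = codeY := by decide +kernel

theorem gGen_code : (List.range 4).all (fun k =>
    prodC ((genXY.getD k []).map fun j => if Nat.beq j 0 then codeX else codeY)
      == genMats.getD k 0) = true := by
  decide +kernel

theorem hasCode_gGen (k : Fin 4) : HasCode (gGen k) (genMats.getD k 0) := by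
  have h := List.all_eq_true.1 gGen_code k (List.mem_range.2 k.2)
  rw [beq_iff_eq] at h
  rw [← h]
  refine hasCode_prod _ _ _ fun j _ => ?_
  cases hb : Nat.beq j 0
  · have hj : j ≠ 0 := fun e => by rw [e] at hb; exact Bool.noConfusion hb
    rw [if_neg hj, if_neg (by simp), ← codeY_eq]
    exact hasCode_rootProd _
  · rw [if_pos (Nat.eq_of_beq_eq_true hb), if_pos rfl, ← codeX_eq]
    exact hasCode_rootProd _

theorem fst6_gGen (k : Fin 4) : fst6 (gGen k) = genGL k := Units.ext (hasCode_gGen k)

theorem rep6_mem (x : Cfsg.Spor.J2) : rep6 x ∈ fst6.range := by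
  obtain ⟨g, rfl⟩ := QuotientGroup.mk_surjective x
  have h : matOf g ∈ fst6.range := by
    refine (Subgroup.closure_le _).2 ?_ (matOf_mem g)
    rintro _ ⟨k, rfl⟩
    exact ⟨gGen k, fst6_gGen k⟩
  exact h

theorem exists_emb : ∃ f : HallJanko.grp →* GG, Function.Injective f ∧
    ∀ k, f ⟨sGen k, sGen_mem k⟩ = gGen k := by
  let f : HallJanko.grp →* GG :=
    (MonoidHom.ofInjective fst6_injective).symm.toMonoidHom.comp
      ((rep6.codRestrict fst6.range rep6_mem).comp toHJ.symm.toMonoidHom)
  have hf : ∀ g, fst6 (f g) = rep6 (toHJ.symm g) := fun g => by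
    show fst6 ((MonoidHom.ofInjective fst6_injective).symm ⟨rep6 (toHJ.symm g), rep6_mem _⟩) = _
    exact MonoidHom.apply_ofInjective_symm fst6_injective _
  refine ⟨f, fun a b h => toHJ.symm.injective (rep6_injective ?_), fun k => fst6_injective ?_⟩
  · rw [← hf, ← hf, h]
  rw [hf, fst6_gGen]
  have hk : gen k ∈ Cfsg.Spor.twoJ2 := twoJ2_eq ▸ Subgroup.subset_closure (Set.mem_range_self k)
  have e : toHJ ((⟨gen k, hk⟩ : Cfsg.Spor.twoJ2) : Cfsg.Spor.J2) = ⟨sGen k, sGen_mem k⟩ :=
    psi_injective ((toHJ_spec _).trans (psi_gen k).symm)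
  rw [← e, MulEquiv.symm_apply_apply, rep6_gen]

/-- The embedding. -/
def jEmb : HallJanko.grp →* GG := exists_emb.choose

theorem jEmb_injective : Function.Injective jEmb := exists_emb.choose_spec.1

theorem jEmb_gen (k : Fin 4) : jEmb ⟨sGen k, sGen_mem k⟩ = gGen k := exists_emb.choose_spec.2 k

/-- The element of a word in the four involutions. -/
def hwEl (w : List ℕ) : HallJanko.grp :=
  (w.map fun k => (⟨sGen ⟨k % 4, Nat.mod_lt _ (by norm_num)⟩, sGen_mem _⟩ : HallJanko.grp)).prod

/-- The code of the image of a word. -/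
def hwCode (w : List ℕ) : ℕ := prodC (w.map fun k => genMats.getD (k % 4) 0)

theorem hasCode_hw (w : List ℕ) : HasCode (jEmb (hwEl w)) (hwCode w) := by
  rw [hwEl, map_list_prod, List.map_map]
  refine hasCode_prod _ _ _ fun k _ => ?_
  show HasCode (jEmb ⟨sGen _, sGen_mem _⟩) _
  rw [jEmb_gen]
  exact hasCode_gGen ⟨k % 4, Nat.mod_lt _ (by norm_num)⟩

/-- The code of a word on a hundred points. -/
def hwPerm (w : List ℕ) : ℕ :=
  genWord PermCode.mul HallJanko.one ((List.range 4).map fun k => tc (genIdx.getD k 0 % 315))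
    (w.map (· % 4))

theorem emb_hw (w : List ℕ) :
    PermCode.emb ((hwEl w : HallJanko.grp) : Equiv.Perm HallJanko.Pt) = PermCode.dec (hwPerm w) := by
  induction w with
  | nil => rw [hwPerm, List.map_nil, genWord, HallJanko.hone]; exact map_one PermCode.emb
  | cons k w ih =>
    rw [hwEl, List.map_cons, List.prod_cons, Subgroup.coe_mul, map_mul, hwPerm, List.map_cons, genWord,
      PermCode.hmul]
    rw [hwEl] at ih
    rw [ih]
    congr 1
    show PermCode.emb (CfsgLib.Icosian.T (gIdx ⟨k % 4, _⟩)) = _
    rw [emb_T]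
    have hl : k % 4 < ((List.range 4).map fun k => tc (genIdx.getD k 0 % 315)).length := by
      simp; omega
    rw [List.getD_eq_getElem _ _ hl]
    simp [gIdx]

/-- Words for the subgroup generators. -/
def subW (i j : ℕ) : List ℕ := (subWords.getD i []).getD j []

/-- Words for their conjugates. -/
def imgW (i j : ℕ) : List ℕ := (subImgWords.getD i []).getD j []

/-- A suborbit representative. -/
def xEl (i : ℕ) : GG := jEmb (hwEl (cosetConj.getD i [])) * rootProd (cosetRoot.getD i [])

/-- Its code. -/
def xCode (i : ℕ) : ℕ := mulC (hwCode (cosetConj.getD i [])) (rootProdC (cosetRoot.getD i []))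

/-- The code of its inverse. -/
def xiCode (i : ℕ) : ℕ :=
  mulC (rootProdC (cosetRoot.getD i []).reverse) (hwCode (cosetConj.getD i []).reverse)

/-- Its inverse. -/
def xiEl (i : ℕ) : GG :=
  rootProd (cosetRoot.getD i []).reverse * jEmb (hwEl (cosetConj.getD i []).reverse)

theorem hasCode_xEl (i : ℕ) : HasCode (xEl i) (xCode i) :=
  hasCode_mul (hasCode_hw _) (hasCode_rootProd _)

theorem hasCode_xiEl (i : ℕ) : HasCode (xiEl i) (xiCode i) :=
  hasCode_mul (hasCode_rootProd _) (hasCode_hw _)

theorem xi_table : (List.range 2).all (fun i => mulC (xiCode i) (xCode i) == oneC) = true := by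
  decide +kernel

theorem sub_table : (List.range 2).all (fun i => (List.range 2).all fun j =>
    mulC (hwCode (subW i j)) (xCode i) == mulC (xCode i) (hwCode (imgW i j))) = true := by
  decide +kernel

theorem sub_perm : (List.range 2).all (fun j => hwPerm (subW 0 j) == Unitary.kc j &&
    hwPerm (subW 1 j) == Cent.hc j) = true := by
  decide +kernel

/-- The code of an element of order thirteen. -/
def witCode (i : ℕ) : ℕ :=
  mulC (mulC (mulC (xiCode i) (genMats.getD ((witness.getD i (0, [])).1 % 4) 0)) (xCode i))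
    (hwCode (witness.getD i (0, [])).2)

theorem wit_table : (List.range 2).all (fun i =>
    prodC (List.replicate 13 (witCode i)) == oneC && !(witCode i == oneC)) = true := by
  decide +kernel

theorem xiEl_eq {i : ℕ} (hi : i < 2) : xiEl i = (xEl i)⁻¹ := by
  refine eq_inv_of_mul_eq_one_left (hasCode_eq (hasCode_mul (hasCode_xiEl i) (hasCode_xEl i)) ?_)
  have h := beq_iff_eq.1 (List.all_eq_true.1 xi_table i (List.mem_range.2 hi))
  rw [h]; exact hasCode_one

theorem conj_sub {i j : ℕ} (hi : i < 2) (hj : j < 2) :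
    (xEl i)⁻¹ * jEmb (hwEl (subW i j)) * xEl i = jEmb (hwEl (imgW i j)) := by
  rw [mul_assoc, inv_mul_eq_iff_eq_mul]
  refine hasCode_eq (hasCode_mul (hasCode_hw _) (hasCode_xEl i)) ?_
  have h := List.all_eq_true.1 (List.all_eq_true.1 sub_table i (List.mem_range.2 hi)) j (List.mem_range.2 hj)
  rw [beq_iff_eq.1 h]
  exact hasCode_mul (hasCode_xEl i) (hasCode_hw _)

/-- A witness that the element does not normalise the subgroup. -/
def witEl (i : ℕ) : HallJanko.grp :=
  ⟨sGen ⟨(witness.getD i (0, [])).1 % 4, Nat.mod_lt _ (by norm_num)⟩, sGen_mem _⟩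

theorem not_normal {i : ℕ} (hi : i < 2) : (xEl i)⁻¹ * jEmb (witEl i) * xEl i ∉ jEmb.range := by
  intro h
  obtain ⟨a, ha⟩ := h
  set y : HallJanko.grp := a * hwEl (witness.getD i (0, [])).2
  have hc : HasCode (jEmb y) (witCode i) := by
    rw [map_mul, ha, ← xiEl_eq hi]
    refine hasCode_mul (hasCode_mul (hasCode_mul (hasCode_xiEl i) ?_) (hasCode_xEl i)) (hasCode_hw _)
    rw [witEl, jEmb_gen]
    exact hasCode_gGen _
  have h' := List.all_eq_true.1 wit_table i (List.mem_range.2 hi)
  simp only [Bool.and_eq_true, beq_iff_eq, Bool.not_eq_true', beq_eq_false_iff_ne] at h'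
  have h13 : jEmb y ^ 13 = 1 := by
    refine hasCode_eq (a := oneC) ?_ hasCode_one
    rw [← h'.1]
    have := hasCode_prod (fun _ : Unit => jEmb y) (fun _ => witCode i) (List.replicate 13 ())
      (fun _ _ => hc)
    rw [List.map_replicate, List.map_replicate, List.prod_replicate] at this
    exact this
  have h13' : y ^ 13 = 1 := jEmb_injective (by rw [map_pow, h13, map_one])
  have hy : y ≠ 1 := by
    intro e
    rw [e, map_one] at hc
    refine h'.2 ?_
    have hd : dec (witCode i) = dec oneC := hc.symm.trans hasCode_one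
    have key : ∀ i < 2, dec (witCode i) ≠ dec oneC := by decide +kernel
    exact absurd hd (key i hi)
  have hord : orderOf y = 13 := by
    have : Fact (Nat.Prime 13) := ⟨by norm_num⟩
    exact orderOf_eq_prime h13' hy
  have hd : orderOf y ∣ Nat.card HallJanko.grp := orderOf_dvd_natCard y
  rw [hord, HallJanko.card_grp] at hd
  omega

end CfsgLib.Icosian.Six
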