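import Mathlib
import Cfsg.Agent.Lib.Icosian.Unitary
import Cfsg.Agent.Lib.Icosian.Centralizer
import Cfsg.Agent.Lib.Icosian.SixData

/-!
The subgroups of index 100 and 315 are maximal.
-/

set_option autoImplicit false
set_option maxRecDepth 100000

noncomputable section

namespace CfsgLib.Icosian.Six

open CfsgLib.Sporadic CfsgLib.Sporadic.PermCode
open MulAction

theorem not_index_small {L : Subgroup HallJanko.grp} (h1 : L.index ≠ 1) : 10 ≤ L.index := by
  have := HallJanko.isSimple
  by_contra hlt
  push Not at hlt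
  have hfin : L.index ≠ 0 := Subgroup.index_ne_zero_of_finite
  rcases this.eq_bot_or_eq_top_of_normal L.normalCore inferInstance with h | h
  · have hker : (MulAction.toPermHom HallJanko.grp (HallJanko.grp ⧸ L)).ker = ⊥ := by
      rw [← Subgroup.normalCore_eq_ker, h]
    have hinj := (MonoidHom.ker_eq_bot_iff _).1 hker
    have hd := Subgroup.card_dvd_of_injective _ hinj
    rw [Nat.card_perm, HallJanko.card_grp, ← Subgroup.index_eq_card] at hd
    interval_cases hn : L.index <;> simp_all [Nat.factorial] <;> omega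
  · exact h1 (Subgroup.index_eq_one.2 (top_le_iff.1 (h ▸ L.normalCore_le)))

theorem card_orbit_mul {H : Type*} [Group H] {X : Type*} [MulAction H X] [Finite H] (x : X) :
    (orbit H x).ncard * Nat.card (stabilizer H x) = Nat.card H := by
  rw [← MulAction.index_stabilizer, mul_comm, Subgroup.card_mul_index]

theorem orbit_facts {X : Type*} [MulAction HallJanko.grp X] [IsPretransitive HallJanko.grp X] {x : X}
    {n : ℕ} (hn : Nat.card X = n) {L : Subgroup HallJanko.grp} (hL : stabilizer HallJanko.grp x ≤ L) :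
    L.index * (orbit L x).ncard = n ∧ ((orbit L x).ncard = 1 → L = stabilizer HallJanko.grp x) := by
  have hs : stabilizer L x = (stabilizer HallJanko.grp x).subgroupOf L := rfl
  have h1 : (orbit L x).ncard = (stabilizer HallJanko.grp x).relIndex L := by
    rw [← MulAction.index_stabilizer, hs]; rfl
  refine ⟨?_, fun h => ?_⟩
  · rw [h1, mul_comm, Subgroup.relIndex_mul_index hL, MulAction.index_stabilizer, orbit_eq_univ,
      Set.ncard_univ, hn]
  · rw [h1] at h
    exact le_antisymm (Subgroup.relIndex_eq_one.1 h) hL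

theorem coatom_kGrp : IsCoatom (HallJanko.kGrp.subgroupOf HallJanko.grp) := by
  have := HallJanko.pretransitive
  rw [← Unitary.stabilizer_zero]
  refine ⟨fun h => ?_, fun L hL => ?_⟩
  · have hs := card_orbit_mul (H := HallJanko.grp) (0 : HallJanko.Pt)
    rw [orbit_eq_univ, Set.ncard_univ, Nat.card_fin, h, Subgroup.card_top, HallJanko.card_grp] at hs
    omega
  obtain ⟨h100, h1⟩ := orbit_facts (Nat.card_fin 100) hL.le
  by_contra htop
  have h10 := not_index_small fun e => htop (Subgroup.index_eq_one.1 e)
  have hbig : 37 ≤ (orbit L (0 : HallJanko.Pt)).ncard := by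
    obtain ⟨q, hq, hq0⟩ : ∃ q ∈ orbit L (0 : HallJanko.Pt), q ≠ 0 := by
      by_contra hall
      push Not at hall
      refine hL.ne' (h1 ?_)
      rw [show orbit L (0 : HallJanko.Pt) = {0} from
        Set.eq_singleton_iff_unique_mem.2 ⟨mem_orbit_self _, hall⟩, Set.ncard_singleton]
    have hsub : insert (0 : HallJanko.Pt) (orbit HallJanko.kGrp q) ⊆ orbit L (0 : HallJanko.Pt) := by
      refine Set.insert_subset (mem_orbit_self _) ?_
      rintro _ ⟨k, rfl⟩
      obtain ⟨l, rfl⟩ := hq
      have hk : (⟨k.1, HallJanko.kGrp_le k.2⟩ : HallJanko.grp) ∈ L := hL.le (by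
        rw [mem_stabilizer_iff]; exact Unitary.fix_zero k.2)
      exact ⟨⟨_, hk⟩ * l, mul_smul _ _ _⟩
    have h0 : (0 : HallJanko.Pt) ∉ orbit HallJanko.kGrp q := by
      rintro ⟨k, hk⟩
      refine hq0 ?_
      have e : (k : Equiv.Perm HallJanko.Pt) q = 0 := hk
      exact (k : Equiv.Perm HallJanko.Pt).injective (e.trans (Unitary.fix_zero k.2).symm)
    have := Set.ncard_le_ncard hsub (Set.toFinite _)
    rw [Set.ncard_insert_of_notMem h0 (Set.toFinite _)] at this
    have := HallJanko.kGrp_orbit_ge hq0
    omega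
  have := Nat.mul_le_mul h10 hbig
  omega

/-- An image index of a centraliser generator. -/
def cPi (j : Fin 2) (i : ℕ) : ℕ := (centPi.getD j []).getD i 0 % 315

theorem cPi_0 : (List.range 315).all (fun i => Cent.prodEq (Cent.hc 0) (tc i) (tc (cPi 0 i)) (Cent.hc 0))
    = true := by decide +kernel

theorem cPi_1 : (List.range 315).all (fun i => Cent.prodEq (Cent.hc 1) (tc i) (tc (cPi 1 i)) (Cent.hc 1))
    = true := by decide +kernel

theorem psi_hG (j : Fin 2) (i : Fin 315) :
    psi (Cent.hG j) i = ⟨cPi j i, Nat.mod_lt _ (by norm_num)⟩ := by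
  refine T_injective ?_
  rw [psi_spec, mul_inv_eq_iff_eq_mul]
  have h : Cent.prodEq (Cent.hc j) (tc i) (tc (cPi j i)) (Cent.hc j) = true := by
    fin_cases j
    · exact List.all_eq_true.1 cPi_0 i (List.mem_range.2 i.2)
    · exact List.all_eq_true.1 cPi_1 i (List.mem_range.2 i.2)
  exact Cent.prodEq_eq (Cent.emb_hP j) (emb_T i) (emb_T _) (Cent.emb_hP j) h

/-- The image of an index under a word. -/
def wImg (w : List ℕ) (i : ℕ) : ℕ := w.foldr (fun k x => cPi ⟨k % 2, Nat.mod_lt _ (by norm_num)⟩ x) i

theorem down_table : (List.range 315).all (fun j => Nat.beq j 0 || ten.contains j ||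
    orbReps.contains (wImg (downWords.getD j []) j)) = true := by decide +kernel

theorem rep_table : orbReps.all (fun r => Nat.ble 22 ((orbWords.map fun w => wImg w r).dedup.length))
    = true := by decide +kernel

theorem ten_length : ten.length = 10 := by decide +kernel

theorem coatom_centralizer : IsCoatom (Subgroup.centralizer {Cent.t0}) := by
  let _ : MulAction HallJanko.grp (Fin 315) := MulAction.compHom _ psi
  have hsm : ∀ (g : HallJanko.grp) (i : Fin 315), g • i = psi g i := fun _ _ => rfl
  have : IsPretransitive HallJanko.grp (Fin 315) := by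
    have h0 : ∀ i : Fin 315, ∃ h : HallJanko.grp, h • (0 : Fin 315) = i := fun i => by
      obtain ⟨g, hg, e⟩ := exists_conj i
      rw [← twoJ2_eq] at hg
      obtain ⟨h, hh⟩ := exists_psi_eq_rho ⟨g, hg⟩
      refine ⟨h, ?_⟩
      show psi h 0 = i
      rw [hh]
      exact F_injective ((rho_spec _ _).trans e)
    refine ⟨fun x y => ?_⟩
    obtain ⟨a, rfl⟩ := h0 x
    obtain ⟨b, rfl⟩ := h0 y
    exact ⟨b * a⁻¹, by rw [mul_smul, inv_smul_smul]⟩
  have hstab : stabilizer HallJanko.grp (0 : Fin 315) = Subgroup.centralizer {Cent.t0} := by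
    ext g
    rw [mem_stabilizer_iff, hsm, Subgroup.mem_centralizer_singleton_iff, Subtype.ext_iff,
      Subgroup.coe_mul, Subgroup.coe_mul, Cent.t0_coe, ← mul_inv_eq_iff_eq_mul, ← psi_spec]
    exact ⟨fun h => congrArg T h, fun h => T_injective h⟩
  rw [← hstab]
  refine ⟨fun h => ?_, fun L hL => ?_⟩
  · have hs := card_orbit_mul (H := HallJanko.grp) (0 : Fin 315)
    rw [orbit_eq_univ, Set.ncard_univ, Nat.card_fin, h, Subgroup.card_top, HallJanko.card_grp] at hs
    omega
  obtain ⟨h315, h1⟩ := orbit_facts (Nat.card_fin 315) hL.le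
  by_contra htop
  have h10 := not_index_small fun e => htop (Subgroup.index_eq_one.1 e)
  set B := orbit L (0 : Fin 315)
  have hinv : ∀ (w : List ℕ) (i : Fin 315), i ∈ B → ∃ j : Fin 315, j ∈ B ∧ (j : ℕ) = wImg w i := by
    intro w
    induction w with
    | nil => exact fun i hi => ⟨i, hi, rfl⟩
    | cons k w ih =>
      intro i hi
      obtain ⟨j, hj, e⟩ := ih i hi
      obtain ⟨l, rfl⟩ := hj
      have hm : Cent.hG ⟨k % 2, Nat.mod_lt _ (by norm_num)⟩ ∈ L := by
        refine hL.le ?_
        rw [hstab]
        exact Cent.H_le (Subgroup.subset_closure ⟨_, rfl⟩)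
      refine ⟨Cent.hG ⟨k % 2, Nat.mod_lt _ (by norm_num)⟩ • (l • (0 : Fin 315)),
        ⟨⟨_, hm⟩ * l, mul_smul _ _ _⟩, ?_⟩
      rw [hsm, psi_hG]
      show cPi _ _ = cPi _ _
      exact congrArg _ e
  have hle : B.ncard ≤ 21 ∧ (∀ i ∈ B, (i : ℕ) = 0 ∨ (i : ℕ) ∈ ten) := by
    have h21 : B.ncard ≤ 31 := by
      by_contra hc
      have := Nat.mul_le_mul h10 (not_le.1 hc)
      omega
    have key : ∀ i ∈ B, (i : ℕ) = 0 ∨ (i : ℕ) ∈ ten := by
      intro i hi
      by_contra hne
      push Not at hne
      obtain ⟨r, hr, er⟩ := hinv (downWords.getD i []) i hi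
      have hmem := List.all_eq_true.1 down_table i (List.mem_range.2 i.2)
      simp only [Bool.or_eq_true, Nat.beq_eq, List.contains_iff_mem, hne.1, hne.2, false_or] at hmem
      have hge := List.all_eq_true.1 rep_table _ hmem
      rw [Nat.ble_eq] at hge
      have hsub : ((orbWords.map fun w => wImg w (wImg (downWords.getD i []) i)).dedup.toFinset : Set ℕ)
          ⊆ Fin.val '' B := by
        intro x hx
        rw [Finset.mem_coe, List.mem_toFinset, List.mem_dedup, List.mem_map] at hx
        obtain ⟨w, -, rfl⟩ := hx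
        obtain ⟨j, hj, e⟩ := hinv w r hr
        exact ⟨j, hj, by rw [e, er]⟩
      have h22 := Set.ncard_le_ncard hsub (Set.toFinite _)
      rw [Set.ncard_coe_finset, List.toFinset_card_of_nodup (List.nodup_dedup _),
        Set.ncard_image_of_injective _ Fin.val_injective] at h22
      have hn : B.ncard ∣ 315 := ⟨L.index, by rw [mul_comm]; exact h315.symm⟩
      have hd : L.index ∣ 315 := ⟨B.ncard, h315.symm⟩
      have : L.index ≤ 14 := by
        by_contra hc
        have := Nat.mul_le_mul (show 15 ≤ L.index by omega) (show 22 ≤ B.ncard by omega)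
        omega
      interval_cases hi : L.index <;> omega
    refine ⟨?_, key⟩
    have hsub : Fin.val '' B ⊆ ↑((0 :: ten).toFinset) := by
      rintro _ ⟨i, hi, rfl⟩
      simpa using key i hi
    have := Set.ncard_le_ncard hsub (Finset.finite_toSet _)
    rw [Set.ncard_coe_finset, Set.ncard_image_of_injective _ Fin.val_injective] at this
    have := this.trans (List.toFinset_card_le _)
    rw [List.length_cons, ten_length] at this
    omega
  have h11 : B.ncard ≤ 11 := by
    have hsub : Fin.val '' B ⊆ ↑((0 :: ten).toFinset) := by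
      rintro _ ⟨i, hi, rfl⟩
      simpa using hle.2 i hi
    have := Set.ncard_le_ncard hsub (Finset.finite_toSet _)
    rw [Set.ncard_coe_finset, Set.ncard_image_of_injective _ Fin.val_injective] at this
    have := this.trans (List.toFinset_card_le _)
    rw [List.length_cons, ten_length] at this
    omega
  -- the orbit would have eleven points, and 11 does not divide 315
  have hn : B.ncard ∣ 315 := ⟨L.index, by rw [mul_comm]; exact h315.symm⟩
  obtain ⟨q, hq, hq0⟩ : ∃ q ∈ B, q ≠ 0 := by
    by_contra hall
    push Not at hall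
    refine hL.ne' (h1 ?_)
    rw [show B = {0} from
      Set.eq_singleton_iff_unique_mem.2 ⟨mem_orbit_self _, hall⟩, Set.ncard_singleton]
  have hqt : (q : ℕ) ∈ ten := (hle.2 q hq).resolve_left fun h => hq0 (Fin.ext h)
  have hten : ∀ a ∈ ten, 10 ≤ ((orbWords.map fun w => wImg w a).dedup.filter fun x => ten.contains x).length := by
    decide +kernel
  have hsub : (insert 0 ((orbWords.map fun w => wImg w q).dedup.filter fun x => ten.contains x).toFinset : Set ℕ)
      ⊆ Fin.val '' B := by
    refine Set.insert_subset ⟨0, mem_orbit_self _, rfl⟩ ?_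
    intro x hx
    rw [Finset.mem_coe, List.mem_toFinset, List.mem_filter, List.mem_dedup, List.mem_map] at hx
    obtain ⟨⟨w, -, rfl⟩, -⟩ := hx
    obtain ⟨j, hj, e⟩ := hinv w q hq
    exact ⟨j, hj, e⟩
  have := Set.ncard_le_ncard hsub (Set.toFinite _)
  rw [Set.ncard_insert_of_notMem ?_ (Finset.finite_toSet _), Set.ncard_coe_finset,
    List.toFinset_card_of_nodup ((List.nodup_dedup _).filter _),
    Set.ncard_image_of_injective _ Fin.val_injective] at this
  · have := hten _ hqt
    have e11 : B.ncard = 11 := by omega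
    rw [e11] at h315
    omega
  · rw [Finset.mem_coe, List.mem_toFinset, List.mem_filter]
    intro h
    exact absurd h.2 (by decide +kernel)

end CfsgLib.Icosian.Six
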