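import Mathlib

/-!
A subgroup with three double cosets, two of them witnessed by maximal subgroups.
-/

set_option autoImplicit false

namespace CfsgLib.Icosian.Six

open MulAction

variable {J G : Type*} [Group J] [Group G] [Finite G]

omit [Finite G] in
theorem comap_conj_eq (f : J →* G) {M : Subgroup J} (hM : IsCoatom M) {x : G}
    (h1 : ∀ m ∈ M, x⁻¹ * f m * x ∈ f.range) {w : J} (hw : x⁻¹ * f w * x ∉ f.range) :
    (f.range.map (MulAut.conj x).toMonoidHom).comap f = M := by
  have hmem : ∀ j, j ∈ (f.range.map (MulAut.conj x).toMonoidHom).comap f ↔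
      x⁻¹ * f j * x ∈ f.range := by
    intro j
    rw [Subgroup.mem_comap, Subgroup.mem_map]
    constructor
    · rintro ⟨y, hy, e⟩
      have : x⁻¹ * f j * x = y := by
        rw [← e]
        show x⁻¹ * (x * y * x⁻¹) * x = y
        group
      rwa [this]
    · intro h
      refine ⟨_, h, ?_⟩
      show x * (x⁻¹ * f j * x) * x⁻¹ = f j
      group
  rcases hM.le_iff.1 (show M ≤ _ from fun m hm => (hmem m).2 (h1 m hm)) with h | h
  · exact absurd ((hmem w).1 (h ▸ Subgroup.mem_top w)) hw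
  · exact h

omit [Finite G] in
theorem coatom_inf_map {f : J →* G} (hf : Function.Injective f) {x : G} {M : Subgroup J}
    (hM : IsCoatom M) (e : (f.range.map (MulAut.conj x).toMonoidHom).comap f = M) :
    IsCoatom ((f.range ⊓ f.range.map (MulAut.conj x).toMonoidHom).subgroupOf f.range) := by
  let ι : J ≃* f.range := MonoidHom.ofInjective hf
  have h : (f.range.map (MulAut.conj x).toMonoidHom).subgroupOf f.range = M.map (ι : J →* f.range) := by
    rw [← e]
    ext ⟨y, hy⟩
    obtain ⟨j, rfl⟩ := hy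
    rw [Subgroup.mem_subgroupOf, Subgroup.mem_map]
    constructor
    · exact fun h => ⟨j, Subgroup.mem_comap.2 h, rfl⟩
    · rintro ⟨i, hi, ei⟩
      have : f i = f j := congrArg Subtype.val ei
      show f j ∈ f.range.map (MulAut.conj x).toMonoidHom
      rw [← this]
      exact Subgroup.mem_comap.1 hi
  rw [Subgroup.inf_subgroupOf_left, h]
  exact (OrderIso.isCoatom_iff ι.mapSubgroup M).2 hM

omit [Finite G] in
theorem card_orbit (f : J →* G) (hf : Function.Injective f) {x : G} {M : Subgroup J}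
    (e : (f.range.map (MulAut.conj x).toMonoidHom).comap f = M) [Finite J] :
    (orbit f.range (x : G ⧸ f.range)).ncard = M.index := by
  rw [← index_stabilizer, ← e]
  let ι : J ≃* f.range := MonoidHom.ofInjective hf
  rw [← Subgroup.index_comap_of_surjective (stabilizer f.range (x : G ⧸ f.range))
    (f := (ι : J →* f.range)) ι.surjective]
  congr 1
  ext j
  rw [Subgroup.mem_comap, mem_stabilizer_iff, Subgroup.mem_comap, Subgroup.mem_map]
  show ((f j * x : G) : G ⧸ f.range) = x ↔ _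
  rw [QuotientGroup.eq]
  constructor
  · intro h
    refine ⟨((f j * x)⁻¹ * x)⁻¹, inv_mem h, ?_⟩
    show x * _ * x⁻¹ = f j
    group
  · rintro ⟨y, hy, ey⟩
    have ey' : x * y * x⁻¹ = f j := ey
    rw [← ey', show (x * y * x⁻¹ * x)⁻¹ * x = y⁻¹ by group]
    exact inv_mem hy

theorem three_cosets (f : J →* G) (hf : Function.Injective f) [Finite J] {x₁ x₂ : G}
    {M₁ M₂ : Subgroup J} (hM₁ : IsCoatom M₁) (hM₂ : IsCoatom M₂)
    (h₁ : ∀ m ∈ M₁, x₁⁻¹ * f m * x₁ ∈ f.range) (h₂ : ∀ m ∈ M₂, x₂⁻¹ * f m * x₂ ∈ f.range)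
    {w₁ w₂ : J} (hw₁ : x₁⁻¹ * f w₁ * x₁ ∉ f.range) (hw₂ : x₂⁻¹ * f w₂ * x₂ ∉ f.range)
    (hi₁ : M₁.index = 100) (hi₂ : M₂.index = 315) (hidx : f.range.index = 416) :
    IsCoatom f.range ∧ ∀ x : G, x ∉ f.range →
      IsCoatom ((f.range ⊓ f.range.map (MulAut.conj x).toMonoidHom).subgroupOf f.range) := by
  classical
  have e₁ := comap_conj_eq f hM₁ h₁ hw₁
  have e₂ := comap_conj_eq f hM₂ h₂ hw₂
  set H := f.range
  have o₁ : (orbit H (x₁ : G ⧸ H)).ncard = 100 := (card_orbit f hf e₁).trans hi₁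
  have o₂ : (orbit H (x₂ : G ⧸ H)).ncard = 315 := (card_orbit f hf e₂).trans hi₂
  have o₀ : orbit H ((1 : G) : G ⧸ H) = {((1 : G) : G ⧸ H)} := by
    refine Set.eq_singleton_iff_unique_mem.2 ⟨mem_orbit_self _, ?_⟩
    rintro _ ⟨h, rfl⟩
    show (((h : G) * 1 : G) : G ⧸ H) = ((1 : G) : G ⧸ H)
    rw [QuotientGroup.eq]
    simp
  have hdisj : ∀ {a b : G ⧸ H}, (orbit H a).ncard ≠ (orbit H b).ncard →
      Disjoint (orbit H a) (orbit H b) := by
    intro a b hne
    rw [Set.disjoint_left]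
    intro z ha hb
    exact hne (by rw [← orbit_eq_iff.2 ha, ← orbit_eq_iff.2 hb])
  have hall : ∀ x : G, x ∈ H ∨ (x : G ⧸ H) ∈ orbit H (x₁ : G ⧸ H) ∨
      (x : G ⧸ H) ∈ orbit H (x₂ : G ⧸ H) := by
    intro x
    have h : ({((1 : G) : G ⧸ H)} ∪ orbit H (x₁ : G ⧸ H) ∪ orbit H (x₂ : G ⧸ H)) = Set.univ := by
      refine Set.eq_of_subset_of_ncard_le (Set.subset_univ _) ?_
      rw [← o₀, Set.ncard_union_eq (Set.disjoint_union_left.2
        ⟨hdisj (by rw [o₂, o₀, Set.ncard_singleton]; norm_num), hdisj (by rw [o₁, o₂]; norm_num)⟩),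
        Set.ncard_union_eq (hdisj (by rw [o₁, o₀, Set.ncard_singleton]; norm_num)),
        o₁, o₂, o₀, Set.ncard_singleton, Set.ncard_univ, ← Subgroup.index_eq_card, hidx]
    have hx : (x : G ⧸ H) ∈ ({((1 : G) : G ⧸ H)} ∪ orbit H (x₁ : G ⧸ H) ∪ orbit H (x₂ : G ⧸ H)) :=
      h ▸ Set.mem_univ _
    rcases hx with (hx | hx) | hx
    · left
      have := QuotientGroup.eq.1 (Set.mem_singleton_iff.1 hx)
      simpa using this
    · exact Or.inr (Or.inl hx)
    · exact Or.inr (Or.inr hx)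
  have hinter : ∀ x : G, x ∉ H →
      IsCoatom ((H ⊓ H.map (MulAut.conj x).toMonoidHom).subgroupOf H) := by
    intro x hx
    obtain ⟨y, M, hM, hy, hxy⟩ : ∃ y : G, ∃ M : Subgroup J, IsCoatom M ∧
        (H.map (MulAut.conj y).toMonoidHom).comap f = M ∧ (x : G ⧸ H) ∈ orbit H (y : G ⧸ H) := by
      rcases (hall x).resolve_left hx with h | h
      · exact ⟨x₁, M₁, hM₁, e₁, h⟩
      · exact ⟨x₂, M₂, hM₂, e₂, h⟩
    obtain ⟨⟨_, j, rfl⟩, hj⟩ := hxy
    obtain ⟨h', hh', rfl⟩ : ∃ h' ∈ H, x = f j * y * h' := by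
      refine ⟨(f j * y)⁻¹ * x, ?_, by group⟩
      exact QuotientGroup.eq.1 hj
    have key : H.map (MulAut.conj (f j * y * h')).toMonoidHom =
        (H.map (MulAut.conj y).toMonoidHom).map (MulAut.conj (f j)).toMonoidHom := by
      have hH : H.map (MulAut.conj h').toMonoidHom = H := by
        refine le_antisymm ?_ fun z hz => ⟨h'⁻¹ * z * h', mul_mem (mul_mem (inv_mem hh') hz) hh', ?_⟩
        · rintro _ ⟨z, hz, rfl⟩
          exact mul_mem (mul_mem hh' hz) (inv_mem hh')
        · show h' * (h'⁻¹ * z * h') * h'⁻¹ = z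
          group
      conv_rhs => rw [← hH]
      rw [Subgroup.map_map, Subgroup.map_map]
      congr 1
      ext z
      simp [mul_assoc]
    refine coatom_inf_map hf
      ((OrderIso.isCoatom_iff (MulAut.conj j).mapSubgroup M).2 hM) ?_
    rw [key]
    ext i
    have hc : ∀ z, (MulAut.conj (f j)).toMonoidHom z = f j * z * (f j)⁻¹ := fun _ => rfl
    rw [Subgroup.mem_comap, Subgroup.mem_map]
    show _ ↔ i ∈ M.map (MulAut.conj j).toMonoidHom
    rw [Subgroup.mem_map]
    constructor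
    · rintro ⟨z, hz, e⟩
      refine ⟨j⁻¹ * i * j, ?_, ?_⟩
      · rw [← hy, Subgroup.mem_comap]
        have : f (j⁻¹ * i * j) = z := by
          rw [map_mul, map_mul, map_inv, ← e, hc]; group
        rwa [this]
      · show j * (j⁻¹ * i * j) * j⁻¹ = i
        group
    · rintro ⟨z, hz, e⟩
      refine ⟨f z, ?_, ?_⟩
      · rw [← hy, Subgroup.mem_comap] at hz; exact hz
      · rw [hc, ← map_inv, ← map_mul, ← map_mul]
        exact congrArg f e
  refine ⟨⟨fun h => ?_, fun L hL => ?_⟩, hinter⟩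
  · rw [h, Subgroup.index_top] at hidx
    norm_num at hidx
  by_contra htop
  have hin : ∀ y : G, (orbit H (y : G ⧸ H)).ncard ≠ 1 → y ∈ L →
      orbit H (y : G ⧸ H) ⊆ ((↑) : G → G ⧸ H) '' L := by
    rintro y - hy _ ⟨h, rfl⟩
    exact ⟨h * y, mul_mem (hL.le h.2) hy, rfl⟩
  have hcard : (((↑) : G → G ⧸ H) '' L).ncard * L.index = 416 := by
    rw [← hidx, ← Subgroup.relIndex_mul_index hL.le]
    congr 1
    have h1 : orbit L ((1 : G) : G ⧸ H) = ((↑) : G → G ⧸ H) '' L := by
      ext z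
      constructor
      · rintro ⟨l, rfl⟩; exact ⟨l * 1, by simpa using l.2, rfl⟩
      · rintro ⟨l, hl, rfl⟩; exact ⟨⟨l, hl⟩, by show ((l * 1 : G) : G ⧸ H) = _; rw [mul_one]⟩
    rw [← h1, ← index_stabilizer]
    congr 1
    ext l
    rw [mem_stabilizer_iff, Subgroup.mem_subgroupOf]
    show (((l : G) * 1 : G) : G ⧸ H) = ((1 : G) : G ⧸ H) ↔ _
    rw [QuotientGroup.eq]
    simp
  obtain ⟨y, hy, hyH⟩ := SetLike.exists_of_lt hL
  have h1L : ((1 : G) : G ⧸ H) ∈ ((↑) : G → G ⧸ H) '' L := ⟨1, one_mem L, rfl⟩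
  have hoy : (orbit H (y : G ⧸ H)).ncard = 100 ∨ (orbit H (y : G ⧸ H)).ncard = 315 := by
    rcases (hall y).resolve_left hyH with h | h <;> rw [orbit_eq_iff.2 h]
    exacts [Or.inl o₁, Or.inr o₂]
  have hge : (orbit H (y : G ⧸ H)).ncard + 1 ≤ (((↑) : G → G ⧸ H) '' L).ncard := by
    have hnot : ((1 : G) : G ⧸ H) ∉ orbit H (y : G ⧸ H) := by
      intro h
      have := orbit_eq_iff.2 h
      rw [o₀] at this
      rw [← this, Set.ncard_singleton] at hoy
      omega
    rw [← Set.ncard_insert_of_notMem hnot (Set.toFinite _)]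
    exact Set.ncard_le_ncard (Set.insert_subset h1L (hin y (by omega) hy)) (Set.toFinite _)
  have hLi : L.index ≠ 1 := fun e => htop (Subgroup.index_eq_one.1 e)
  have hLle : L.index ≤ 4 := by
    by_contra hc
    have := Nat.mul_le_mul (show 101 ≤ (((↑) : G → G ⧸ H) '' L).ncard by omega) (show 5 ≤ L.index by omega)
    omega
  -- the image has 1 + 100 or 1 + 315 points, since larger unions fill everything
  have hexact : (((↑) : G → G ⧸ H) '' L).ncard = 101 ∨ (((↑) : G → G ⧸ H) '' L).ncard = 316 ∨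
      (((↑) : G → G ⧸ H) '' L).ncard = 416 := by
    by_cases hA : ∃ a ∈ L, (a : G ⧸ H) ∈ orbit H (x₁ : G ⧸ H)
    · by_cases hB : ∃ b ∈ L, (b : G ⧸ H) ∈ orbit H (x₂ : G ⧸ H)
      · right; right
        obtain ⟨a, ha, ha'⟩ := hA
        obtain ⟨b, hb, hb'⟩ := hB
        have hu : (((↑) : G → G ⧸ H) '' L) = Set.univ := by
          refine Set.eq_univ_of_forall fun z => ?_
          induction z using QuotientGroup.induction_on with | _ z => ?_
          rcases hall z with h | h | h
          · exact ⟨z, hL.le h, rfl⟩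
          · rw [← orbit_eq_iff.2 ha'] at h
            obtain ⟨g, hg⟩ := h
            exact ⟨g * a, mul_mem (hL.le g.2) ha, hg⟩
          · rw [← orbit_eq_iff.2 hb'] at h
            obtain ⟨g, hg⟩ := h
            exact ⟨g * b, mul_mem (hL.le g.2) hb, hg⟩
        rw [hu, Set.ncard_univ, ← Subgroup.index_eq_card, hidx]
      · left
        obtain ⟨a, ha, ha'⟩ := hA
        have he : (((↑) : G → G ⧸ H) '' L) = insert ((1 : G) : G ⧸ H) (orbit H (x₁ : G ⧸ H)) := by
          ext z
          constructor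
          · rintro ⟨z, hz, rfl⟩
            rcases hall z with h | h | h
            · left; rw [QuotientGroup.eq]; simpa using h
            · exact Or.inr h
            · exact absurd ⟨z, hz, h⟩ hB
          · rintro (rfl | ⟨g, rfl⟩)
            · exact h1L
            · have hz : g • (x₁ : G ⧸ H) ∈ orbit H (a : G ⧸ H) := by
                rw [orbit_eq_iff.2 ha']; exact mem_orbit _ g
              obtain ⟨g', hg'⟩ := hz
              exact ⟨g' * a, mul_mem (hL.le g'.2) ha, hg'⟩
        rw [he, Set.ncard_insert_of_notMem ?_ (Set.toFinite _), o₁]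
        intro h
        have := orbit_eq_iff.2 h
        rw [o₀] at this
        rw [← this, Set.ncard_singleton] at o₁
        omega
    · right; left
      obtain ⟨b, hb, hb'⟩ : ∃ b ∈ L, (b : G ⧸ H) ∈ orbit H (x₂ : G ⧸ H) :=
        ⟨y, hy, ((hall y).resolve_left hyH).resolve_left fun h => hA ⟨y, hy, h⟩⟩
      have he : (((↑) : G → G ⧸ H) '' L) = insert ((1 : G) : G ⧸ H) (orbit H (x₂ : G ⧸ H)) := by
        ext z
        constructor
        · rintro ⟨z, hz, rfl⟩
          rcases hall z with h | h | h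
          · left; rw [QuotientGroup.eq]; simpa using h
          · exact absurd ⟨z, hz, h⟩ hA
          · exact Or.inr h
        · rintro (rfl | ⟨g, rfl⟩)
          · exact h1L
          · have hz : g • (x₂ : G ⧸ H) ∈ orbit H (b : G ⧸ H) := by
              rw [orbit_eq_iff.2 hb']; exact mem_orbit _ g
            obtain ⟨g', hg'⟩ := hz
            exact ⟨g' * b, mul_mem (hL.le g'.2) hb, hg'⟩
      rw [he, Set.ncard_insert_of_notMem ?_ (Set.toFinite _), o₂]
      intro h
      have := orbit_eq_iff.2 h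
      rw [o₀] at this
      rw [← this, Set.ncard_singleton] at o₂
      omega
  rcases hexact with h | h | h <;> rw [h] at hcard <;> omega

end CfsgLib.Icosian.Six
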