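import Mathlib
import Cfsg.Agent.Lib.Icosian.SixEmbed
import Cfsg.Agent.Lib.Icosian.SixMaximal
import Cfsg.Agent.Lib.Icosian.ThreeCosets
import Cfsg.Agent.Lib.Recognition.Transport.Chevalley

/-!
G₂(4) is extremely primitive on the cosets of the Hall-Janko group.
-/

set_option autoImplicit false
set_option maxRecDepth 100000

noncomputable section

namespace CfsgLib.Icosian.Six

open CfsgLib.Sporadic
open CfsgLib.Recognition.G2Four (F4)

/-- The statement for a group. -/
def Extreme (G : Type*) [Group G] : Prop :=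
  ∃ H : Subgroup G, IsCoatom H ∧ Cfsg.Spor.IsoJ2 H ∧
    ∀ x : G, x ∉ H → IsCoatom ((H ⊓ H.map (MulAut.conj x).toMonoidHom).subgroupOf H)

theorem conj_mem_range {M : Subgroup HallJanko.grp} {x : GG} {S : Set HallJanko.grp}
    (hM : M ≤ Subgroup.closure S) (hS : ∀ s ∈ S, x⁻¹ * jEmb s * x ∈ jEmb.range) :
    ∀ m ∈ M, x⁻¹ * jEmb m * x ∈ jEmb.range := by
  intro m hm
  have h : Subgroup.closure S ≤ jEmb.range.comap ((MulAut.conj x⁻¹).toMonoidHom.comp jEmb) := by
    refine (Subgroup.closure_le _).2 fun s hs => ?_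
    show x⁻¹ * jEmb s * (x⁻¹)⁻¹ ∈ jEmb.range
    rw [inv_inv]
    exact hS s hs
  have h' : x⁻¹ * jEmb m * (x⁻¹)⁻¹ ∈ jEmb.range := h (hM hm)
  rwa [inv_inv] at h'

theorem hwEl_subW (j : Fin 2) :
    PermCode.emb ((hwEl (subW 0 j) : HallJanko.grp) : Equiv.Perm HallJanko.Pt) = PermCode.dec (Unitary.kc j) ∧
      hwEl (subW 1 j) = Cent.hG j := by
  have h := List.all_eq_true.1 sub_perm j (List.mem_range.2 j.2)
  simp only [Bool.and_eq_true, beq_iff_eq] at h
  refine ⟨by rw [emb_hw, h.1], Subtype.ext (PermCode.hemb ?_)⟩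
  rw [emb_hw, h.2]
  exact (Cent.emb_hP j).symm

theorem kGrp_le_closure : HallJanko.kGrp.subgroupOf HallJanko.grp ≤
    Subgroup.closure (Set.range fun j : Fin 2 => hwEl (subW 0 j)) := by
  intro m hm
  have h : HallJanko.kGrp ≤
      (Subgroup.closure (Set.range fun j : Fin 2 => hwEl (subW 0 j))).map HallJanko.grp.subtype := by
    refine (Subgroup.closure_le _).2 ?_
    rintro g ⟨c, hc, hg⟩
    obtain ⟨j, rfl⟩ := Unitary.kGens_cases hc
    exact ⟨_, Subgroup.subset_closure ⟨j, rfl⟩, PermCode.hemb ((hwEl_subW j).1.trans hg.symm)⟩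
  obtain ⟨a, ha, e⟩ := h (show (m : Equiv.Perm HallJanko.Pt) ∈ HallJanko.kGrp from hm)
  rwa [← show a = m from Subtype.ext e]

theorem index_range : jEmb.range.index = 416 := by
  have h := jEmb.range.card_mul_index
  rw [← Nat.card_congr (MonoidHom.ofInjective jEmb_injective).toEquiv, HallJanko.card_grp,
    CfsgLib.Recognition.G2Four.card_grp] at h
  omega

theorem extreme_model : Extreme GG := by
  have : Finite GG := Nat.finite_of_card_ne_zero (by rw [CfsgLib.Recognition.G2Four.card_grp]; norm_num)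
  have hi₁ : (HallJanko.kGrp.subgroupOf HallJanko.grp).index = 100 := by
    have h := (HallJanko.kGrp.subgroupOf HallJanko.grp).card_mul_index
    rw [Nat.card_congr (Subgroup.subgroupOfEquivOfLe HallJanko.kGrp_le).toEquiv, HallJanko.card_kGrp,
      HallJanko.card_grp] at h
    omega
  have hi₂ : (Subgroup.centralizer {Cent.t0}).index = 315 := by
    have h := (Subgroup.centralizer {Cent.t0}).card_mul_index
    rw [Cent.card_centralizer, HallJanko.card_grp] at h
    omega
  have h := three_cosets jEmb jEmb_injective coatom_kGrp coatom_centralizer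
    (x₁ := xEl 0) (x₂ := xEl 1)
    (conj_mem_range kGrp_le_closure (by
      rintro _ ⟨j, rfl⟩
      rw [conj_sub (by norm_num) j.2]
      exact ⟨_, rfl⟩))
    (conj_mem_range (S := Set.range fun j : Fin 2 => hwEl (subW 1 j)) (by
      rw [show (fun j : Fin 2 => hwEl (subW 1 j)) = Cent.hG from funext fun j => (hwEl_subW j).2]
      exact Cent.card_facts.2.ge) (by
      rintro _ ⟨j, rfl⟩
      rw [conj_sub (by norm_num) j.2]
      exact ⟨_, rfl⟩))
    (not_normal (i := 0) (by norm_num)) (not_normal (i := 1) (by norm_num)) hi₁ hi₂ index_range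
  exact ⟨jEmb.range, h.1, ⟨(MonoidHom.ofInjective jEmb_injective).symm.trans toHJ.symm⟩, h.2⟩

theorem extreme_congr {G G' : Type*} [Group G] [Group G'] (e : G ≃* G') (h : Extreme G) : Extreme G' := by
  obtain ⟨H, hH, ⟨i⟩, hx⟩ := h
  refine ⟨H.map (e : G →* G'), (OrderIso.isCoatom_iff e.mapSubgroup H).2 hH,
    ⟨(e.subgroupMap H).symm.trans i⟩, fun x hxn => ?_⟩
  obtain ⟨y, rfl⟩ := e.surjective x
  have hy : y ∉ H := fun h => hxn ⟨y, h, rfl⟩
  have key : (H.map (e : G →* G')).map (MulAut.conj (e y)).toMonoidHom =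
      (H.map (MulAut.conj y).toMonoidHom).map (e : G →* G') := by
    rw [Subgroup.map_map, Subgroup.map_map]
    congr 1
    ext z
    simp
  have hc := (OrderIso.isCoatom_iff (e.subgroupMap H).mapSubgroup _).2 (hx y hy)
  convert hc using 1
  rw [key]
  ext ⟨z, hz⟩
  obtain ⟨w, hw, rfl⟩ := hz
  show e w ∈ H.map (e : G →* G') ⊓ (H.map (MulAut.conj y).toMonoidHom).map (e : G →* G') ↔
    (⟨e w, _⟩ : H.map (e : G →* G')) ∈ Subgroup.map ((e.subgroupMap H : H ≃* H.map (e : G →* G')) : H →* H.map (e : G →* G')) _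
  rw [Subgroup.mem_inf, Subgroup.mem_map, Subgroup.mem_map, Subgroup.mem_map]
  constructor
  · rintro ⟨-, v, hv, ev⟩
    obtain rfl : v = w := e.injective ev
    exact ⟨⟨v, hw⟩, ⟨hw, hv⟩, rfl⟩
  · rintro ⟨⟨v, hv⟩, hv', ev⟩
    obtain rfl : v = w := e.injective (congrArg Subtype.val ev)
    exact ⟨⟨v, hv, rfl⟩, v, hv'.2, rfl⟩

theorem extreme_chev {F : Type*} [Field F] [Fintype F] (hF : Fintype.card F = 4) :
    Extreme (Cfsg.Lie.chevG2.group F) := by
  obtain ⟨e⟩ : Nonempty (F4 ≃+* F) :=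
    ⟨FiniteField.ringEquivOfCardEq (CfsgLib.Recognition.G2Four.F4.card_eq.trans hF.symm)⟩
  obtain ⟨f⟩ := CfsgLib.Recognition.Transport.nonempty_group_congr (D := Cfsg.Lie.chevG2) e
  exact extreme_congr (CfsgLib.Recognition.G2Four.equivGroup.trans f) extreme_model

end CfsgLib.Icosian.Six
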